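import Cfsg.Agent.Lib.RC.Hyp

/-!
# Small tools for plan RC
-/

set_option autoImplicit false
set_option linter.unusedSectionVars false

namespace Cfsg.Agent.RC

open Subgroup Cfsg.Agent.OO Cfsg.Agent.Coprime GW GW2
open scoped commutatorElement Pointwise

universe u

variable {G : Type u} [Group G] {x y w e f g a b u v z t : G} {T P Q M L Y : Subgroup G}

instance ZZ_normal : (ZZ G).Normal := ⟨fun z hz g => by rwa [ZZ_conj hz]⟩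

theorem ZZ_sq (h : z ∈ ZZ G) : z * z = 1 := h.2

theorem ZZ_inv (h : z ∈ ZZ G) : z⁻¹ = z := inv_eq_of_mul_eq_one_right h.2

theorem ZZ_le_cent1 (y : G) : ZZ G ≤ 𝐂[y] := fun _ h => mem_cent1.2 (ZZ_comm h y).symm

theorem ZZ_le_cent (Y : Subgroup G) : ZZ G ≤ 𝐂(Y) := fun _ h => mem_cent_iff.2 fun y _ => ZZ_comm h y

theorem ZZ_two : IsPGroup 2 (ZZ G) := fun z => ⟨1, Subtype.ext (by simpa [sq] using z.2.2)⟩

theorem le_norm_ZZ (M : Subgroup G) : M ≤ 𝐍(ZZ G) := fun _ _ => by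
  rw [normalizer_eq_top]; trivial

theorem mem_ZZ_conj : g * z * g⁻¹ ∈ ZZ G ↔ z ∈ ZZ G :=
  ⟨fun h => by
    have := ZZ_conj h g⁻¹
    rwa [← this, show g⁻¹ * (g * z * g⁻¹) * g⁻¹⁻¹ = z by group] at h,
  fun h => by rwa [ZZ_conj h]⟩

theorem cent1_mul_ZZ (h : z ∈ ZZ G) : 𝐂[y * z] = 𝐂[y] := by
  ext g
  rw [mem_cent1, mem_cent1, ← mul_assoc, mul_assoc y, ← ZZ_comm h, ← mul_assoc, mul_left_inj]

theorem sq_iv (h : u * u = v * v) : Iv u (u⁻¹ * v) := by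
  show u * (u⁻¹ * v) * u⁻¹ = (u⁻¹ * v)⁻¹
  calc u * (u⁻¹ * v) * u⁻¹ = v⁻¹ * (v * v) * u⁻¹ := by group
    _ = v⁻¹ * (u * u) * u⁻¹ := by rw [h]
    _ = _ := by group

theorem Iv.inv_right (h : Iv e x) : Iv e x⁻¹ := by
  show e * x⁻¹ * e⁻¹ = x⁻¹⁻¹
  rw [show e * x⁻¹ * e⁻¹ = (e * x * e⁻¹)⁻¹ by group, h]

theorem Iv.of_inv_right (h : Iv e x⁻¹) : Iv e x := by simpa using h.inv_right

theorem Iv.inv_left (h : Iv e x) : Iv e⁻¹ x := by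
  show e⁻¹ * x * e⁻¹⁻¹ = x⁻¹
  have : e * x⁻¹ * e⁻¹ = x := by simpa [Iv] using h.inv_right
  conv_lhs => rw [← this]
  group

theorem sq_iv' (h : u * u = v * v) : Iv v (u⁻¹ * v) := by
  have := (sq_iv h.symm).inv_right
  rwa [mul_inv_rev, inv_inv] at this

theorem Iv.zpow (h : Iv e x) (n : ℤ) : Iv e (x ^ n) := by
  show e * x ^ n * e⁻¹ = (x ^ n)⁻¹
  rw [← conj_zpow, h, inv_zpow]

theorem Iv.pow (h : Iv e x) (n : ℕ) : Iv e (x ^ n) := by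
  show e * x ^ n * e⁻¹ = (x ^ n)⁻¹
  rw [← conj_pow, h, inv_pow]

theorem Iv.of_mem_zpowers (h : Iv e x) (hy : y ∈ zpowers x) : Iv e y := by
  obtain ⟨n, rfl⟩ := hy; exact h.zpow n

theorem Iv.conj (h : Iv e x) (g : G) : Iv (g * e * g⁻¹) (g * x * g⁻¹) := by
  show _ = _
  calc g * e * g⁻¹ * (g * x * g⁻¹) * (g * e * g⁻¹)⁻¹ = g * (e * x * e⁻¹) * g⁻¹ := by group
    _ = _ := by rw [h]; group

theorem Iv.mul_cent (h : Iv e x) (ht : t ∈ 𝐂[x]) : Iv (e * t) x := by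
  show _ = _
  calc e * t * x * (e * t)⁻¹ = e * (t * x * t⁻¹) * e⁻¹ := by group
    _ = _ := by rw [mem_cent1_iff_conj.1 ht, h]

theorem Iv.cent_mul (h : Iv e x) (ht : t ∈ 𝐂[x]) : Iv (t * e) x := by
  show _ = _
  calc t * e * x * (t * e)⁻¹ = t * (e * x * e⁻¹) * t⁻¹ := by group
    _ = (t * x * t⁻¹)⁻¹ := by rw [h]; group
    _ = _ := by rw [mem_cent1_iff_conj.1 ht]

theorem Iv.mul_mem (h : Iv e x) (h' : Iv f x) : e * f ∈ 𝐂[x] := by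
  rw [mem_cent1_iff_conj]
  calc e * f * x * (e * f)⁻¹ = e * (f * x * f⁻¹) * e⁻¹ := by group
    _ = _ := by rw [h', h.inv_right, inv_inv]

theorem Iv.mul_of_comm (h : Iv e x) (h' : Iv e y) (hc : x * y = y * x) : Iv e (x * y) := by
  show _ = _
  calc e * (x * y) * e⁻¹ = (e * x * e⁻¹) * (e * y * e⁻¹) := by group
    _ = (y * x)⁻¹ := by rw [h, h', mul_inv_rev]
    _ = _ := by rw [hc]

theorem Iv.sq_eq_one (h : Iv e x) (hc : e ∈ 𝐂[x]) : x * x = 1 := by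
  have h1 : x = x⁻¹ := (mem_cent1_iff_conj.1 hc).symm.trans h
  exact mul_eq_one_iff_eq_inv.2 h1

theorem iv_of_sq (h : x * x = 1) (hc : e ∈ 𝐂[x]) : Iv e x := by
  show _ = _
  rw [mem_cent1_iff_conj.1 hc]; exact mul_eq_one_iff_eq_inv.1 h

theorem Iv.mem_cent (h : Iv e x) (h2 : x * x = 1) : e ∈ 𝐂[x] := by
  rw [mem_cent1_iff_conj, h]; exact (mul_eq_one_iff_eq_inv.1 h2).symm

theorem Iv.rl (h : Iv e x) : Rl x := ⟨e, h⟩

theorem Iv.mem_CS (h : Iv e x) : e ∈ CS x := Or.inr h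

theorem rl_of_sq (h : x * x = 1) : Rl x := ⟨1, iv_of_sq h (one_mem _)⟩

theorem Rl.conj (h : Rl x) (g : G) : Rl (g * x * g⁻¹) := by
  obtain ⟨e, he⟩ := h; exact ⟨_, he.conj g⟩

theorem Rl.pow (h : Rl x) (n : ℕ) : Rl (x ^ n) := by
  obtain ⟨e, he⟩ := h; exact ⟨_, he.pow n⟩

theorem Rl.mul_ZZ (h : Rl x) (hz : z ∈ ZZ G) : Rl (x * z) := by
  obtain ⟨e, he⟩ := h
  exact ⟨e, he.mul_of_comm (iv_of_sq hz.2 (mem_cent1.2 (ZZ_comm hz e))) (ZZ_comm hz x)⟩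

theorem odd_sq_eq_one (ho : Odd (orderOf x)) (h : x * x = 1) : x = 1 := by
  have h1 : orderOf x ∣ 2 := orderOf_dvd_of_pow_eq_one (by rw [sq, h])
  rcases (Nat.dvd_prime Nat.prime_two).1 h1 with h2 | h2
  · exact orderOf_eq_one_iff.1 h2
  · rw [h2] at ho; exact absurd ho (by decide)

theorem mem_of_sq_mem (ho : Odd (orderOf x)) (h : x * x ∈ M) : x ∈ M := by
  obtain ⟨k, hk⟩ := ho
  have : x = ((x * x) ^ k)⁻¹ := by
    rw [eq_inv_iff_mul_eq_one, ← sq, ← pow_mul, ← pow_succ', ← hk, pow_orderOf_eq_one]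
  rw [this]; exact inv_mem (pow_mem h k)

theorem Two.eq_one (h : Two x) (ho : Odd (orderOf x)) : x = 1 := by
  obtain ⟨k, hk⟩ := h
  have h1 : orderOf x ∣ 2 ^ k := orderOf_dvd_of_pow_eq_one hk
  exact orderOf_eq_one_iff.1
    (Nat.Coprime.eq_one_of_dvd (Nat.Coprime.pow_right k (Nat.coprime_two_right.2 ho)) h1)

theorem two_of_mem (hP : IsPGroup 2 P) (h : x ∈ P) : Two x := by
  obtain ⟨k, hk⟩ := hP ⟨x, h⟩
  exact ⟨k, by simpa using congrArg Subtype.val hk⟩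

theorem Two.pgroup (h : Two x) : IsPGroup 2 (zpowers x) := by
  obtain ⟨k, hk⟩ := h
  rintro ⟨_, n, rfl⟩
  refine ⟨k, Subtype.ext ?_⟩
  show (x ^ n) ^ 2 ^ k = 1
  rw [← zpow_natCast, ← zpow_mul, mul_comm, zpow_mul, zpow_natCast, hk, one_zpow]

theorem Two.conj (h : Two x) (g : G) : Two (g * x * g⁻¹) := by
  obtain ⟨k, hk⟩ := h
  exact ⟨k, by rw [conj_pow, hk]; group⟩

theorem Two.pow (h : Two x) (n : ℕ) : Two (x ^ n) := two_of_mem h.pgroup (pow_mem (mem_zpowers x) n)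

theorem two_of_sq (h : x * x ∈ P) (hP : IsPGroup 2 P) : Two x := by
  obtain ⟨k, hk⟩ := two_of_mem hP h
  exact ⟨k + 1, by rw [pow_succ', pow_mul, sq, hk]⟩

theorem Nice.two (h : Nice a) : Two a := two_of_sq h ZZ_two

theorem Two.exists_pow (h : Two w) (hM : w ∉ M) : ∃ n : ℕ, w ^ n ∉ M ∧ w ^ n * w ^ n ∈ M := by
  obtain ⟨k, hk⟩ := h
  induction k generalizing w with
  | zero => rw [pow_zero, pow_one] at hk; exact absurd (hk ▸ one_mem M) hM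
  | succ k ih =>
    by_cases h2 : w * w ∈ M
    · exact ⟨1, by simpa using hM, by simpa using h2⟩
    · obtain ⟨n, h3, h4⟩ := ih h2 (by rw [← sq, ← pow_mul, ← pow_succ', hk])
      exact ⟨2 * n, by rwa [pow_mul, sq], by rwa [pow_mul, sq]⟩

theorem Nice.conj_sq (h : Nice a) (g : G) : g * a * g⁻¹ * (g * a * g⁻¹) = a * a := by
  rw [← ZZ_conj h g]; group

theorem Nice.conj (h : Nice a) (g : G) : Nice (g * a * g⁻¹) := by
  show _ ∈ _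
  rw [h.conj_sq]; exact h

theorem Nice.inv (h : Nice a) : Nice a⁻¹ := by
  show _ ∈ _
  rw [← mul_inv_rev]; exact inv_mem h

theorem Nice.mul (ha : Nice a) (hb : Nice b) (h : ⁅a, b⁆ ∈ ZZ G) : Nice (a * b) := by
  show _ ∈ _
  have : a * b * (a * b) = (a * a) * (a⁻¹ * ⁅a, b⁆⁻¹ * a⁻¹⁻¹) * (b * b) := by
    simp only [commutatorElement_def]; group
  rw [this, ZZ_conj (inv_mem h)]
  exact mul_mem (mul_mem ha (inv_mem h)) hb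

theorem comm_ZZ_symm (h : ⁅a, b⁆ ∈ ZZ G) : ⁅b, a⁆ ∈ ZZ G := by
  rw [← commutatorElement_inv]; exact inv_mem h

theorem comm_mem_of_ZZ (h : z ∈ ZZ G) (a : G) : ⁅a, z⁆ ∈ ZZ G := by
  rw [commutatorElement_eq_one_iff_mul_comm.2 (ZZ_comm h a)]; exact one_mem _

theorem nice_of_ZZ (h : z ∈ ZZ G) : Nice z := mul_mem h h

theorem Nice.mul_ZZ (h : Nice a) (hz : z ∈ ZZ G) : Nice (a * z) :=
  h.mul (nice_of_ZZ hz) (comm_mem_of_ZZ hz a)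

theorem Nice.comm_of_iv (h : Nice a) (he : Iv e a) : ⁅e, a⁆ ∈ ZZ G := by
  rw [commutatorElement_def, he]; exact h.inv

theorem Good.rl (h : Good y) : Rl y := by
  obtain ⟨ρ, -, h1⟩ := h.inv; exact ⟨ρ, h1⟩

theorem Good.conj (h : Good y) (g : G) : Good (g * y * g⁻¹) := by
  obtain ⟨ρ, h1, h2⟩ := h.inv
  exact ⟨fun h3 => h.nz (mem_ZZ_conj.1 h3), h.nice.conj g, _, h1.conj g, h2.conj g⟩

theorem Good.mul_ZZ (h : Good y) (hz : z ∈ ZZ G) : Good (y * z) := by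
  obtain ⟨ρ, h1, h2⟩ := h.inv
  refine ⟨fun h3 => h.nz ?_, h.nice.mul_ZZ hz, ρ, h1,
    h2.mul_of_comm (iv_of_sq hz.2 (mem_cent1.2 (ZZ_comm hz ρ))) (ZZ_comm hz y)⟩
  simpa using mul_mem h3 (inv_mem hz)

theorem Good.ZZ_mul (h : Good y) (hz : z ∈ ZZ G) : Good (z * y) := by
  rw [← ZZ_comm hz]; exact h.mul_ZZ hz

theorem Good.inv' (h : Good y) : Good y⁻¹ := by
  obtain ⟨ρ, h1, h2⟩ := h.inv
  exact ⟨fun h3 => h.nz (inv_mem_iff.1 h3), h.nice.inv, ρ, h1, h2.inv_right⟩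

/-- a 2-element outside `ZZ G` inverted by a nice element has a good power -/
theorem exists_good_pow (h : Two w) (hz : w ∉ ZZ G) (hf : Nice f) (hi : Iv f w) :
    ∃ n : ℕ, Good (w ^ n) := by
  obtain ⟨n, h1, h2⟩ := h.exists_pow hz
  exact ⟨n, h1, h2, f, hf, hi.pow n⟩

theorem cent_le_CM (Y : Set G) : centralizer Y ≤ CM Y := fun g hg y hy => by
  rw [commutatorElement_eq_one_iff_mul_comm.2 (hg y hy).symm]; exact one_mem _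

theorem ZZ_le_CM (Y : Set G) : ZZ G ≤ CM Y := fun _ h y _ => comm_ZZ_symm (comm_mem_of_ZZ h y)

theorem mem_CM1_comm : g ∈ CM {y} ↔ y ∈ CM {g} := by
  rw [mem_CM1, mem_CM1]; exact ⟨comm_ZZ_symm, comm_ZZ_symm⟩

theorem le_CM1_iff : Y ≤ CM {g} ↔ g ∈ CM (Y : Set G) :=
  ⟨fun h _ hy => comm_ZZ_symm (mem_CM1.1 (h hy)), fun h y hy => mem_CM1.2 (comm_ZZ_symm (h y hy))⟩

theorem conj_eq_comm_mul (g y : G) : g * y * g⁻¹ = ⁅g, y⁆ * y := by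
  simp only [commutatorElement_def]; group

theorem comm_mul_of_ZZ (h : ⁅b, y⁆ ∈ ZZ G) (a : G) : ⁅a * b, y⁆ = ⁅a, y⁆ * ⁅b, y⁆ := by
  have : ⁅a * b, y⁆ = a * ⁅b, y⁆ * a⁻¹ * ⁅a, y⁆ := by simp only [commutatorElement_def]; group
  rw [this, ZZ_conj h, ZZ_comm h]

theorem sq_mem_cent_of_comm (h : ⁅g, y⁆ ∈ ZZ G) : g * g ∈ 𝐂[y] := by
  rw [mem_cent1, ← commutatorElement_eq_one_iff_mul_comm, comm_mul_of_ZZ h, h.2]

theorem odd_CM {Y : Set G} (ho : Odd (orderOf x)) (h : x ∈ CM Y) : x ∈ centralizer Y := fun y hy =>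
  (mem_cent1.1 (mem_of_sq_mem ho (sq_mem_cent_of_comm (h y hy)))).symm

theorem conj_CM1 (g y : G) : CM {g * y * g⁻¹} = g •ᶜ CM {y} := by
  ext a
  rw [mem_conj, mem_CM1, mem_CM1, ← mem_ZZ_conj (g := g⁻¹)]
  congr! 1
  simp only [commutatorElement_def]; group

theorem CM1_mul_ZZ (h : z ∈ ZZ G) : CM {y * z} = CM {y} := by
  ext a
  rw [mem_CM1_comm, mem_CM1_comm (g := a)]
  exact mul_mem_cancel_right (ZZ_le_CM _ h)

theorem norm_le_norm_CM [Finite G] : 𝐍(Y) ≤ 𝐍(CM (Y : Set G)) := fun g hg =>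
  mem_norm_of_conj_mem fun a ha y hy => by
    have h1 := ha _ (conj_mem_of_norm' hg hy)
    rw [← mem_ZZ_conj (g := g)] at h1
    convert h1 using 1
    simp only [commutatorElement_def]; group

theorem CM_le_norm [Finite G] (h : ZZ G ≤ Y) : CM (Y : Set G) ≤ 𝐍(Y) := fun g hg =>
  mem_norm_of_conj_mem fun y hy => by
    rw [conj_eq_comm_mul]; exact mul_mem (h (hg y hy)) hy

theorem CM1_le_norm_cent [Finite G] : CM {y} ≤ 𝐍(𝐂[y]) := fun g hg =>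
  mem_norm_of_conj_le (by
    rw [← cent1_conj, conj_eq_comm_mul, ← ZZ_comm (mem_CM1.1 hg), cent1_mul_ZZ (mem_CM1.1 hg)])

theorem cent_le_CS (x : G) : 𝐂[x] ≤ CS x := fun _ h => Or.inl (mem_cent1_iff_conj.1 h)

theorem mem_CS' : g ∈ CS x ↔ g ∈ 𝐂[x] ∨ Iv g x := by rw [mem_CS, mem_cent1_iff_conj]

theorem iv_of_mem (h : g ∈ CS x) (h' : g ∉ 𝐂[x]) : Iv g x := (mem_CS'.1 h).resolve_left h'

theorem CS_le_norm [Finite G] (x : G) : CS x ≤ 𝐍(𝐂[x]) := fun g hg =>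
  mem_norm_of_conj_le (by
    rw [← cent1_conj]
    rcases hg with hg | hg
    · rw [hg]
    · rw [hg, cent1_inv])

theorem CS_conj (g x : G) : CS (g * x * g⁻¹) = g •ᶜ CS x := by
  ext a
  rw [mem_conj, mem_CS', mem_CS', cent1_conj, mem_conj]
  refine or_congr Iff.rfl ⟨fun h => ?_, fun h => ?_⟩
  · simpa [mul_assoc] using h.conj g⁻¹
  · simpa [mul_assoc] using h.conj g

theorem CS_le_of_mem_zpowers (h : y ∈ zpowers x) : CS x ≤ CS y := fun _ hg =>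
  mem_CS'.2 ((mem_CS'.1 hg).imp (fun h1 => cent1_le_of_mem_zpowers h h1) fun h1 => h1.of_mem_zpowers h)

/-- index at most two -/
theorem card_le_two_mul [Finite G] {A B : Subgroup G}
    (h : ∀ a ∈ A, ∀ b ∈ A, a ∉ B → b ∉ B → a * b ∈ B) : ♯A ≤ 2 * ♯(A ⊓ B) := by
  by_cases hAB : A ≤ B
  · rw [inf_eq_left.2 hAB]; omega
  obtain ⟨a, ha, haB⟩ := SetLike.not_le_iff_exists.1 hAB
  have h2 : B.relIndex A = 2 := by
    refine (index_eq_two_iff).2 ⟨⟨a, ha⟩, fun b => ?_⟩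
    simp only [mem_subgroupOf, coe_mul]
    by_cases hb : (b : G) ∈ B
    · exact Or.inr ⟨hb, fun h3 => haB ((mul_mem_cancel_left hb).1 h3)⟩
    · exact Or.inl ⟨h _ b.2 _ ha hb haB, hb⟩
  have := card_inf_mul_relIndex B A
  rw [h2, inf_comm] at this
  omega

theorem two_mul_card_le [Finite G] {A B : Subgroup G} (h : A < B) : 2 * ♯A ≤ ♯B := by
  obtain ⟨k, hk⟩ := card_dvd h.le
  have h1 := card_lt h
  have h2 := card_pos' A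
  rcases k with _ | _ | k
  · omega
  · omega
  · nlinarith

section syl

variable [Finite G]

theorem syl_CS0 (h : Syl 2 T (CS y)) : Syl 2 (T ⊓ 𝐂[y]) 𝐂[y] :=
  h.inf_of_norm (cent_le_CS y) (h.le.trans (CS_le_norm y))

theorem card_CS_le (h : T ≤ CS y) : ♯T ≤ 2 * ♯(T ⊓ 𝐂[y]) :=
  card_le_two_mul fun _ ha _ hb h1 h2 => (iv_of_mem (h ha) h1).mul_mem (iv_of_mem (h hb) h2)

theorem syl_exists_iv (h : Syl 2 T (CS y)) (hr : Rl y) : ∃ e ∈ T, Iv e y := by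
  by_cases h2 : y * y = 1
  · exact ⟨1, one_mem _, iv_of_sq h2 (one_mem _)⟩
  by_contra hn
  push Not at hn
  have h1 : T ≤ 𝐂[y] := fun t ht => (mem_CS'.1 (h.le ht)).resolve_right (hn t ht)
  obtain ⟨e, he⟩ := hr
  have h3 : 𝐂[y].relIndex (CS y) = 2 := by
    refine (index_eq_two_iff).2 ⟨⟨e, he.mem_CS⟩, fun b => ?_⟩
    simp only [mem_subgroupOf, coe_mul]
    by_cases hb : (b : G) ∈ 𝐂[y]
    · exact Or.inr ⟨hb, fun h3 => h2 (he.sq_eq_one ((mul_mem_cancel_left hb).1 h3))⟩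
    · exact Or.inl ⟨(iv_of_mem b.2 hb).mul_mem he, hb⟩
  exact h.not_dvd (h3 ▸ relIndex_dvd_of_le_left _ h1)

theorem syl_card_CS (h : Syl 2 T (CS y)) (hr : Rl y) (h2 : y * y ≠ 1) :
    ♯T = 2 * ♯(T ⊓ 𝐂[y]) := by
  obtain ⟨e, he, hi⟩ := syl_exists_iv h hr
  exact le_antisymm (card_CS_le h.le)
    (two_mul_card_le (lt_of_le_of_ne inf_le_left fun h3 => h2 (hi.sq_eq_one (h3.ge he).2)))

theorem syl_conj_CS (h : Syl 2 T (CS y)) (hQ : Q ≤ CS y) (hp : IsPGroup 2 Q) :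
    ∃ g ∈ 𝐂[y], g •ᶜ Q ≤ T := by
  obtain ⟨g, hg, h1⟩ := h.exists_conj_le hQ hp
  rcases mem_CS'.1 hg with h2 | h2
  · exact ⟨g, h2, h1⟩
  · obtain ⟨e, he, hi⟩ := syl_exists_iv h h2.rl
    exact ⟨e * g, hi.mul_mem h2, by rw [← conj_conj]; exact conj_le_of_mem he h1⟩

theorem ZZ_le_syl (h : Syl 2 T M) (hM : ZZ G ≤ M) : ZZ G ≤ T :=
  h.le_of_norm hM ZZ_two (Or.inl (le_norm_ZZ T))

theorem not_mem_ZZ (ho : Odd (orderOf x)) (h1 : x ≠ 1) : x ∉ ZZ G := fun h => h1 (odd_sq_eq_one ho h.2)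

theorem H.cfg (h : H G) (ho : Odd (orderOf x)) (h1 : x ≠ 1) (hr : Rl x) (hQ : Q ≤ CS x)
    (hp : IsPGroup 2 Q) : ∃ T, Cfg x T ∧ Q ≤ T := by
  obtain ⟨T, h2, h3⟩ := exists_syl_ge hQ hp
  exact ⟨T, ⟨h, ho, h1, hr, h2⟩, h3⟩

theorem H.cfg1 (h : H G) (ho : Odd (orderOf x)) (h1 : x ≠ 1) (hi : Iv e x) (he : Two e) :
    ∃ T, Cfg x T ∧ e ∈ T := by
  obtain ⟨T, h2, h3⟩ := h.cfg ho h1 hi.rl (zpowers_le_of_mem hi.mem_CS) he.pgroup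
  exact ⟨T, h2, h3 (mem_zpowers e)⟩

namespace Cfg

theorem nz (h : Cfg x T) : x ∉ ZZ G := not_mem_ZZ h.odd h.ne

theorem sq_ne (h : Cfg x T) : x * x ≠ 1 := fun h1 => h.ne (odd_sq_eq_one h.odd h1)

theorem two (h : Cfg x T) : IsPGroup 2 T := h.syl.isPGroup

theorem two0 (h : Cfg x T) : IsPGroup 2 ↥(T ⊓ 𝐂[x]) := h.two.to_le inf_le_left

theorem syl0 (h : Cfg x T) : Syl 2 (T ⊓ 𝐂[x]) 𝐂[x] := syl_CS0 h.syl

theorem exists_iv (h : Cfg x T) : ∃ e ∈ T, Iv e x := syl_exists_iv h.syl h.rl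

theorem card (h : Cfg x T) : ♯T = 2 * ♯(T ⊓ 𝐂[x]) := syl_card_CS h.syl h.rl h.sq_ne

theorem iv (h : Cfg x T) (ht : t ∈ T) (h' : t ∉ 𝐂[x]) : Iv t x := iv_of_mem (h.syl.le ht) h'

theorem not_cent (h : Cfg x T) (hi : Iv e x) : e ∉ 𝐂[x] := fun h1 => h.sq_ne (hi.sq_eq_one h1)

theorem norm0 (h : Cfg x T) : T ≤ 𝐍(T ⊓ 𝐂[x]) :=
  le_norm_inf (le_norm_self T) (h.syl.le.trans (CS_le_norm x))

theorem ZZ_le (h : Cfg x T) : ZZ G ≤ T ⊓ 𝐂[x] := ZZ_le_syl h.syl0 (ZZ_le_cent1 x)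

/-- `T = T0 ⟨e⟩` -/
theorem le_of (h : Cfg x T) (he : e ∈ T) (hi : Iv e x) (h1 : T ⊓ 𝐂[x] ≤ M) (h2 : e ∈ M) : T ≤ M :=
  fun t ht => by
    by_cases h3 : t ∈ 𝐂[x]
    · exact h1 ⟨ht, h3⟩
    · exact (mul_mem_cancel_right h2).1 (h1 ⟨mul_mem ht he, (h.iv ht h3).mul_mem hi⟩)

theorem le (h : Cfg x T) (hr : Rl w) (hz : w ∉ ZZ G) (hQ : IsPGroup 2 Q) (hle : Q ≤ 𝐂[w]) :
    ♯Q ≤ ♯(T ⊓ 𝐂[x]) := h.h x w h.rl h.nz hr hz _ _ h.syl0 hQ hle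

theorem ge (h : Cfg x T) (hr : Rl w) (hz : w ∉ ZZ G) (hP : Syl 2 P 𝐂[w]) :
    ♯(T ⊓ 𝐂[x]) ≤ ♯P := h.h w x hr hz h.rl h.nz _ _ hP h.two0 inf_le_right

theorem card_syl (h : Cfg x T) (hr : Rl w) (hz : w ∉ ZZ G) (hP : Syl 2 P 𝐂[w]) :
    ♯P = ♯(T ⊓ 𝐂[x]) := le_antisymm (h.le hr hz hP.isPGroup hP.le) (h.ge hr hz hP)

theorem syl_of (h : Cfg x T) (hr : Rl w) (hz : w ∉ ZZ G) (hQ : IsPGroup 2 Q) (hle : Q ≤ 𝐂[w])
    (hc : ♯(T ⊓ 𝐂[x]) ≤ ♯Q) : Syl 2 Q 𝐂[w] := by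
  obtain ⟨P, hP⟩ := exists_syl 2 𝐂[w]
  exact hP.of_card_le hle hQ ((h.card_syl hr hz hP).trans_le hc)

theorem syl_cent (h : Cfg x T) (hr : Rl w) (hz : w ∉ ZZ G) (hle : T ⊓ 𝐂[x] ≤ 𝐂[w]) :
    Syl 2 (T ⊓ 𝐂[x]) 𝐂[w] := h.syl_of hr hz h.two0 hle le_rfl

theorem mem_ZZ_of_card (h : Cfg x T) (hr : Rl w) (hQ : IsPGroup 2 Q) (hle : Q ≤ 𝐂[w])
    (hc : ♯(T ⊓ 𝐂[x]) < ♯Q) : w ∈ ZZ G := by
  by_contra hz
  exact (h.le hr hz hQ hle).not_gt hc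

theorem mem_ZZ_of_le (h : Cfg x T) (hr : Rl w) (hle : T ≤ 𝐂[w]) : w ∈ ZZ G :=
  h.mem_ZZ_of_card hr h.two hle (by have := h.card; have := card_pos' (T ⊓ 𝐂[x]); omega)

/-- a 2-element of `C(w)` normalizing `T0 ≤ C(w)` lies in `T0` -/
theorem mem_of (h : Cfg x T) (hr : Rl w) (hz : w ∉ ZZ G) (hle : T ⊓ 𝐂[x] ≤ 𝐂[w]) (hu : u ∈ 𝐂[w])
    (hn : u ∈ 𝐍(T ⊓ 𝐂[x])) (h2 : Two u) : u ∈ T ⊓ 𝐂[x] :=
  (h.syl_cent hr hz hle).le_of_norm (zpowers_le_of_mem hu) h2.pgroup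
    (Or.inr (zpowers_le_of_mem hn)) (mem_zpowers u)

theorem conj (h : Cfg x T) (g : G) : Cfg (g * x * g⁻¹) (g •ᶜ T) :=
  ⟨h.h, by rw [OO.orderOf_conj]; exact h.odd, fun h1 => h.ne (by simpa using h1), h.rl.conj g,
    by rw [CS_conj]; exact h.syl.conj g⟩

theorem conj_cent (h : Cfg x T) (hg : g ∈ 𝐂[x]) : Cfg x (g •ᶜ T) := by
  have := h.conj g
  rwa [mem_cent1_iff_conj.1 hg] at this

theorem card0_eq {x' : G} {T' : Subgroup G} (h : Cfg x T) (h' : Cfg x' T') :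
    ♯(T' ⊓ 𝐂[x']) = ♯(T ⊓ 𝐂[x]) := h.card_syl h'.rl h'.nz h'.syl0

theorem card_eq {x' : G} {T' : Subgroup G} (h : Cfg x T) (h' : Cfg x' T') : ♯T' = ♯T := by
  rw [h.card, h'.card, h.card0_eq h']

/-- a conjugate under `C(x)` of a 2-element of the extended centralizer lies in `T` -/
theorem conj_mem (h : Cfg x T) (he : e ∈ CS x) (h2 : Two e) : ∃ g ∈ 𝐂[x], g * e * g⁻¹ ∈ T := by
  obtain ⟨g, hg, h1⟩ := syl_conj_CS h.syl (zpowers_le_of_mem he) h2.pgroup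
  exact ⟨g, hg, h1 (conj_mem_conj (mem_zpowers e))⟩

end Cfg

theorem Iv.conj_cent (h : Iv e x) (hg : g ∈ 𝐂[x]) : Iv (g * e * g⁻¹) x :=
  (h.cent_mul hg).mul_cent (inv_mem hg)

theorem comp_norm (hL : IsComponent L) (hc : y ∉ 𝐂(L)) (hg : g * y * g⁻¹ ∈ L) :
    g ∈ 𝐍(L) := by
  rw [← conj_eq_self_iff]
  by_contra hne
  have h1 := Core.component_le_centralizer_of_ne (Core.component_map_conj hL g) hL hne
  have h2 : g * y * g⁻¹ ∈ 𝐂(g •ᶜ L) := le_cent_symm h1 hg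
  rw [cent_conj, conj_mem_conj_iff] at h2
  exact hc h2

theorem Sm.not_cent (h : Sm L) (hx : x ∈ L) (ho : Odd (orderOf x)) (h1 : x ≠ 1) : x ∉ 𝐂(L) :=
  fun h2 => h1 ((two_of_mem h.two ⟨hx, h2⟩).eq_one ho)

theorem Sm.CS_le (h : Sm L) (hx : x ∈ L) (ho : Odd (orderOf x)) (h1 : x ≠ 1) : CS x ≤ 𝐍(L) :=
  fun g hg => comp_norm h.comp (h.not_cent hx ho h1) (by
    rcases hg with hg | hg
    · rwa [hg]
    · rw [hg]; exact inv_mem hx)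

theorem syl_inf (hT : Syl 2 T ⊤) (hn : T ≤ 𝐍(L)) (hM : T ≤ M) : Syl 2 (T ⊓ L) (M ⊓ L) := by
  have h1 : Syl 2 T (M ⊓ 𝐍(L)) := hT.mono (le_inf hM hn) le_top
  have h2 := h1.inf_of_norm (N := M ⊓ L) (inf_le_inf_left M (le_norm_self L))
    (le_norm_inf (le_norm_of_le hM) hn)
  rwa [← inf_assoc, inf_eq_left.2 hM] at h2

end syl

end Cfsg.Agent.RC
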