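import Cfsg.Agent.Lib.CS2.Sec
import Cfsg.Agent.Lib.Core.InvConj

/-!
# Interfaces for groups whose real classes have sizes with equal 2-part (plan RC)
-/

set_option autoImplicit false

namespace Cfsg.Agent.RC

open Subgroup Cfsg.Agent.OO Cfsg.Agent.Coprime GW GW2
open scoped commutatorElement Pointwise

universe u

/-- the central elements of order at most two -/
def ZZ (G : Type u) [Group G] : Subgroup G where
  carrier := {z | z ∈ center G ∧ z * z = 1}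
  one_mem' := ⟨one_mem _, mul_one _⟩
  mul_mem' := by
    rintro a b ⟨ha, ha2⟩ ⟨hb, hb2⟩
    refine ⟨mul_mem ha hb, ?_⟩
    have := mem_center_iff.1 ha b
    calc a * b * (a * b) = a * (b * a) * b := by group
      _ = a * (a * b) * b := by rw [this]
      _ = (a * a) * (b * b) := by group
      _ = 1 := by rw [ha2, hb2, mul_one]
  inv_mem' := by
    rintro a ⟨ha, ha2⟩
    exact ⟨inv_mem ha, by rw [← mul_inv_rev, ha2, inv_one]⟩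

section

variable {G : Type u} [Group G]

theorem mem_ZZ {z : G} : z ∈ ZZ G ↔ z ∈ center G ∧ z * z = 1 := Iff.rfl

theorem ZZ_comm {z : G} (h : z ∈ ZZ G) (g : G) : g * z = z * g := mem_center_iff.1 h.1 g

theorem ZZ_conj {z : G} (h : z ∈ ZZ G) (g : G) : g * z * g⁻¹ = z := by
  rw [ZZ_comm h g, mul_inv_cancel_right]

/-- `e` inverts `x` -/
def Iv (e x : G) : Prop := e * x * e⁻¹ = x⁻¹

/-- real elements -/
def Rl (x : G) : Prop := ∃ e, Iv e x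

/-- 2-elements -/
def Two (w : G) : Prop := ∃ k : ℕ, w ^ 2 ^ k = 1

/-- the square is in `ZZ G` -/
def Nice (a : G) : Prop := a * a ∈ ZZ G

/-- nice, outside `ZZ G` and inverted by a nice element -/
structure Good (y : G) : Prop where
  nz : y ∉ ZZ G
  nice : Nice y
  inv : ∃ ρ, Nice ρ ∧ Iv ρ y

/-- the extended centralizer -/
def CS (x : G) : Subgroup G where
  carrier := {g | g * x * g⁻¹ = x ∨ g * x * g⁻¹ = x⁻¹}
  one_mem' := Or.inl (by group)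
  mul_mem' := by
    intro a b ha hb
    have e : a * b * x * (a * b)⁻¹ = a * (b * x * b⁻¹) * a⁻¹ := by group
    have e' : a * x⁻¹ * a⁻¹ = (a * x * a⁻¹)⁻¹ := by group
    rcases hb with hb | hb
    · show _ ∨ _
      rw [e, hb]; exact ha
    · show _ ∨ _
      rw [e, hb, e']
      rcases ha with ha | ha
      · exact Or.inr (by rw [ha])
      · exact Or.inl (by rw [ha, inv_inv])
  inv_mem' := by
    rintro a (ha | ha)
    · exact Or.inl (by conv_lhs => rw [← ha]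
                       group)
    · refine Or.inr ?_
      have : a * x⁻¹ * a⁻¹ = x := by
        rw [show a * x⁻¹ * a⁻¹ = (a * x * a⁻¹)⁻¹ by group, ha, inv_inv]
      conv_lhs => rw [← this]
      group

theorem mem_CS {x g : G} : g ∈ CS x ↔ g * x * g⁻¹ = x ∨ Iv g x := Iff.rfl

/-- the centralizer modulo `ZZ G` -/
def CM (Y : Set G) : Subgroup G where
  carrier := {g | ∀ y ∈ Y, ⁅g, y⁆ ∈ ZZ G}
  one_mem' := fun y _ => by rw [commutatorElement_one_left]; exact one_mem _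
  mul_mem' := by
    intro a b ha hb y hy
    have : ⁅a * b, y⁆ = a * ⁅b, y⁆ * a⁻¹ * ⁅a, y⁆ := by
      simp only [commutatorElement_def]; group
    rw [this, ZZ_conj (hb y hy)]
    exact mul_mem (hb y hy) (ha y hy)
  inv_mem' := by
    intro a ha y hy
    have : ⁅a⁻¹, y⁆ = a⁻¹ * ⁅a, y⁆⁻¹ * a⁻¹⁻¹ := by
      simp only [commutatorElement_def]; group
    rw [this, ZZ_conj (inv_mem (ha y hy))]
    exact inv_mem (ha y hy)

theorem mem_CM {Y : Set G} {g : G} : g ∈ CM Y ↔ ∀ y ∈ Y, ⁅g, y⁆ ∈ ZZ G := Iff.rfl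

theorem mem_CM1 {y g : G} : g ∈ CM {y} ↔ ⁅g, y⁆ ∈ ZZ G := by simp [mem_CM]

end

/-- the hypothesis: the centralizers of the noncentral real elements have equal 2-parts -/
def H (G : Type u) [Group G] : Prop := ∀ g h : G, Rl g → g ∉ ZZ G → Rl h → h ∉ ZZ G →
  ∀ P Q : Subgroup G, Syl 2 P 𝐂[g] → IsPGroup 2 Q → Q ≤ 𝐂[h] → ♯Q ≤ ♯P

section

variable {G : Type u} [Group G]

/-- a real element `x ≠ 1` of odd order and a Sylow 2-subgroup of its extended centralizer -/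
structure Cfg (x : G) (T : Subgroup G) : Prop where
  h : H G
  odd : Odd (orderOf x)
  ne : x ≠ 1
  rl : Rl x
  syl : Syl 2 T (CS x)

/-- strong configurations -/
structure Str (x : G) (T : Subgroup G) (e f : G) : Prop extends Cfg x T where
  eT : e ∈ T
  ex : Iv e x
  ge : Good e
  gf : Good f
  gef : Good (e * f)
  ef : ⁅e, f⁆ ∈ ZZ G

end

/-- no `T` is a Sylow subgroup of `G` -/
def Big (G : Type u) [Group G] : Prop := ∀ (x : G) (T : Subgroup G), Cfg x T → ¬ Syl 2 T ⊤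

/-- every `T` is a Sylow subgroup of `G` -/
def Small (G : Type u) [Group G] : Prop := ∀ (x : G) (T : Subgroup G), Cfg x T → Syl 2 T ⊤

section

variable {G : Type u} [Group G]

/-- the small case -/
structure Sm (L : Subgroup G) : Prop where
  hyp : H G
  small : Small G
  comp : IsComponent L
  two : IsPGroup 2 (Zc L)

/-- triples in the small case -/
structure Tri (L : Subgroup G) (x : G) (T : Subgroup G) (w : G) : Prop extends Sm L, Cfg x T where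
  xL : x ∈ L
  wL : w ∈ L
  wT : w ∈ T ⊓ 𝐂[x]
  wZ : T ⊓ 𝐂[x] ≤ 𝐂[w]
  nice : Nice w
  w2 : w * w ≠ 1
  inv : ∀ t ∈ T, t ∉ 𝐂[x] → Iv t w
  ex : ∃ e ∈ T ⊓ L, Iv e x ∧ Nice e ∧ Rl e

end

/-! ### package P0a -/

def A1A : Prop := ∀ (G : Type u) [Group G] [Finite G] (x w ε e : G), H G → Odd (orderOf x) →
  x ≠ 1 → Two w → w ∈ 𝐂[x] → Iv ε x → Iv ε w → Iv e x → e ∈ 𝐂[w] → w ∈ ZZ G

def A1B : Prop := ∀ (G : Type u) [Group G] [Finite G] (x w ε : G) (T : Subgroup G), Cfg x T →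
  Two w → w ∈ 𝐂[x] → Iv ε x → Iv ε w → w ∉ ZZ G → ∃ h ∈ 𝐂[x], h * w * h⁻¹ ∈ T ⊓ 𝐂[x] ∧
    T ⊓ 𝐂[x] ≤ 𝐂[h * w * h⁻¹] ∧ ∀ t ∈ T, t ∉ 𝐂[x] → Iv t (h * w * h⁻¹)

def BB : Prop := ∀ (G : Type u) [Group G] [Finite G] (x : G) (T W : Subgroup G), Cfg x T →
  IsPGroup 2 W → x ∈ 𝐍(W) → T ⊓ 𝐂[x] ≤ 𝐍(W) → x ∈ 𝐂(W)

def LL : Prop := ∀ (G : Type u) [Group G] [Finite G] (x e t : G) (T : Subgroup G), Cfg x T →
  e ∈ T → Iv e x → Nice e → t ∈ T ⊓ 𝐂[x] → Nice t → ⁅e, t⁆ ∈ ZZ G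

def M2 : Prop := ∀ (G : Type u) [Group G] [Finite G] (x y g h : G) (T : Subgroup G), Cfg x T →
  Syl 2 T ⊤ → Rl y → y ∉ ZZ G → ⁅g, y⁆ ∈ ZZ G → ⁅h, y⁆ ∈ ZZ G → g ∉ 𝐂[y] → h ∉ 𝐂[y] →
  ⁅g, y⁆ = ⁅h, y⁆

/-! ### package P0b -/

def NR : Prop := ∀ (G : Type u) [Group G] [Finite G] (M : Subgroup G),
  (∀ x ∈ M, ∀ e ∈ M, Odd (orderOf x) → Iv e x → x = 1) → Syl 2 (Op 2 M) M

def BS : Prop := ∀ (G : Type u) [Group G] [Finite G] (M : Subgroup G) (f : G), f ∈ M → Nice f →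
  (∀ x ∈ M, Odd (orderOf x) → Iv f x → x = 1) → f ∈ Op 2 M

def FS : Prop := ∀ (G : Type u) [Group G] [Finite G] (M : Subgroup G) (x e : G), x ∈ M →
  Odd (orderOf x) → x ≠ 1 → Iv e x → x ∈ 𝐂(Op 2 M) → e ∈ 𝐂(O M) →
  ∃ J, J ≤ M ∧ IsQuasisimple J

def G4 : Prop := ∀ (G : Type u) [Group G] [Finite G] (D : Subgroup G) (e f : G), Odd ♯D →
  e ∈ 𝐍(D) → f ∈ 𝐍(D) → e * e ∈ 𝐂(D) → f * f ∈ 𝐂(D) → ⁅e, f⁆ ∈ 𝐂(D) → e ∉ 𝐂(D) →
  ∃ y ∈ D, y ≠ 1 ∧ Iv e y ∧ (y ∈ 𝐂[f] ∨ y ∈ 𝐂[e * f])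

/-! ### package P1 -/

def RED : Prop := ∀ (G : Type u) [Group G] [Finite G] (N : Subgroup G) [N.Normal], Odd ♯N → H G →
  H (G ⧸ N)

/-! ### package P2 -/

def Q1 : Prop := ∀ (G : Type u) [Group G] [Finite G] (J : Subgroup G) (z : G), H G →
  IsQuasisimple J → z ∈ Zc J → z * z = 1 → z ∈ ZZ G

def Q2 : Prop := ∀ (G : Type u) [Group G] [Finite G] (J : Subgroup G) (u : G), IsQuasisimple J →
  u ∈ J → u ∉ 𝐂(J) → u * u ∈ 𝐂(J) → ∃ x ∈ J, Odd (orderOf x) ∧ x ≠ 1 ∧ Iv u x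

def Q3 : Prop := ∀ (G : Type u) [Group G] [Finite G] (J : Subgroup G) (u : G), IsQuasisimple J →
  u ∈ J → u ∉ 𝐂(J) → u * u ∈ 𝐂(J) →
  ∃ g ∈ J, u⁻¹ * (g * u * g⁻¹) ∉ 𝐂(J) ∧ ⁅u, g * u * g⁻¹⁆ ∈ 𝐂(J)

def Q4 : Prop := ∀ (G : Type u) [Group G] [Finite G] (J : Subgroup G), H G → IsQuasisimple J →
  ∃ x ∈ J, ∃ e ∈ J, ∃ f ∈ J, Odd (orderOf x) ∧ x ≠ 1 ∧ Iv e x ∧ Good e ∧ Good f ∧ Good (e * f) ∧
    ⁅e, f⁆ ∈ ZZ G ∧ e ∉ 𝐂(J) ∧ f ∉ 𝐂(J) ∧ e * f ∉ 𝐂(J)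

/-! ### package P3 -/

def UI : Prop := ∀ (G : Type u) [Group G] [Finite G] (x e r : G) (T : Subgroup G), Cfg x T →
  e ∈ T → Iv e x → r ∈ 𝐍(T ⊓ 𝐂[x]) → r * r ∈ T ⊓ 𝐂[x] → ⁅e, r⁆ ∈ T ⊓ 𝐂[x] → r ∈ T

def AL : Prop := ∀ (G : Type u) [Group G] [Finite G] (x w z : G) (T : Subgroup G), Cfg x T →
  w ∈ T → Nice w → z ∈ ZZ G → T ⊓ 𝐂[w] = T ⊓ 𝐂[x] →
  (∀ t ∈ T, t * w * t⁻¹ = w ∨ t * w * t⁻¹ = w * z) → Syl 2 T ⊤

def BE1 : Prop := ∀ (G : Type u) [Group G] [Finite G] (x w ε : G), H G → Big G →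
  Odd (orderOf x) → x ≠ 1 → Two w → w ∈ 𝐂[x] → Iv ε x → Iv ε w → w ∈ ZZ G

def BE3 : Prop := ∀ (G : Type u) [Group G] [Finite G] (x w : G) (T : Subgroup G), Cfg x T →
  Big G → w ∈ T ⊓ 𝐂[x] → T ⊓ 𝐂[x] ≤ 𝐂[w] → Rl w → w ∈ ZZ G

/-! ### package P4 -/

def N0 : Prop := ∀ (G : Type u) [Group G] [Finite G] (x e t : G) (T : Subgroup G), Cfg x T →
  Big G → e ∈ T → Iv e x → Nice e → t ∈ T ⊓ 𝐂[x] → ⁅e, t⁆ ∈ ZZ G

def GP : Prop := ∀ (G : Type u) [Group G] [Finite G] (x e y : G), H G → Big G → Good y →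
  Odd (orderOf x) → Iv e x → Nice e → x ∈ 𝐂[y] → x = 1

def T3 : Prop := ∀ (G : Type u) [Group G] [Finite G] (e f : G), H G → Big G → Good e → Nice f →
  ⁅f, e⁆ ∈ ZZ G → f ∈ Op 2 (CM {e})

/-! ### package P5 -/

def COMP : Prop := ∀ (G : Type u) [Group G] [Finite G] (x e f : G) (T Y : Subgroup G), Cfg x T →
  Big G → e ∈ T → Iv e x → Good e → Nice f → ⁅e, f⁆ ∈ ZZ G → ZZ G ≤ Y → Y < T ⊓ 𝐂[x] →
  Y ≤ CM {f} →
  (∀ y ∈ 𝐂(Y), Odd (orderOf y) → Iv e y → y ∈ 𝐂[f] ∨ y ∈ 𝐂[e * f] → y = 1) →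
  (∀ (x' e' f' : G) (T' : Subgroup G), Str x' T' e' f' → ♯(T' ⊓ 𝐂[x'] ⊓ CM {f'}) ≤ ♯Y) →
  ∃ (x' e' f' : G) (T' : Subgroup G), Str x' T' e' f' ∧ Y ≤ T' ⊓ 𝐂[x'] ∧ e' ∈ 𝐂(Y) ∧ f' ∈ 𝐂(Y)

def MAIN2 : Prop := ∀ (G : Type u) [Group G] [Finite G] (J : Subgroup G), H G → Big G →
  ¬ IsQuasisimple J

/-! ### package P6 -/

def RR : Prop := ∀ (G : Type u) [Group G] [Finite G] (x e a : G) (T : Subgroup G), Cfg x T →
  Syl 2 T ⊤ → e ∈ T → Iv e x → Nice e → Rl e → a ∈ T ⊓ 𝐂[x] → Iv e a → T ⊓ 𝐂[x] ≤ 𝐂[a]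

def TRI : Prop := ∀ (G : Type u) [Group G] [Finite G] (L : Subgroup G), Sm L →
  ∃ (x w : G) (T : Subgroup G), Tri L x T w

def AA : Prop := ∀ (G : Type u) [Group G] [Finite G] (L T : Subgroup G) (x w g : G), Tri L x T w →
  g ∈ L → g * w * g⁻¹ ∈ T ⊓ 𝐂[x] → w⁻¹ * (g * w * g⁻¹) ∈ 𝐂(L)

/-! ### package P7 -/

def KD : Prop := ∀ (G : Type u) [Group G] [Finite G] (L T : Subgroup G) (x w : G), Tri L x T w →
  DH (L ⧸ center L)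

/-! ### package P8 -/

def DR : Prop := ∀ (G : Type u) [Group G] [Finite G], IsSimpleGroup G → ¬ IsMulCommutative G →
  DH G → ∃ x : G, x ≠ 1 ∧ Odd ♯𝐂[x] ∧ Rl x

def EN : Prop := ∀ (G : Type u) [Group G] [Finite G] (L : Subgroup G), Sm L → ¬ DH (L ⧸ center L)

end Cfsg.Agent.RC
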