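import Cfsg.Agent.Lib.RC.P6
import Cfsg.Agent.Lib.R1.ZStar

/-!
# Plan RC, package P2
-/

set_option autoImplicit false
set_option linter.unusedSectionVars false

namespace Cfsg.Agent.RC

open Subgroup Cfsg.Agent.OO Cfsg.Agent.Coprime GW GW2
open scoped commutatorElement Pointwise

universe u

namespace Pq

variable {K : Type u} [Group K] [Finite K] {u : K}

theorem eq_bot (h : IsQuasisimple K) (N : Subgroup (K ⧸ center K)) [N.Normal] (hs : Sol N) : N = ⊥ := by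
  have := h.2
  refine (Normal.eq_bot_or_eq_top ‹_›).resolve_right fun h1 => ?_
  subst h1
  exact Core.not_isSolvable_of_isQuasisimple (Core.isQuasisimple_of_surjective h
    (QuotientGroup.mk'_surjective (center K))) (Group.isSolvable_of_surjective
      (f := (⊤ : Subgroup (K ⧸ center K)).subtype) fun x => ⟨⟨x, mem_top x⟩, rfl⟩)

theorem mk_sq (h2 : u * u ∈ center K) : (u : K ⧸ center K) * u = 1 := by
  rw [← QuotientGroup.mk_mul, QuotientGroup.eq_one_iff]; exact h2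

theorem q2 (h : IsQuasisimple K) (h1 : u ∉ center K) (h2 : u * u ∈ center K) :
    ∃ x : K, Odd (orderOf x) ∧ x ≠ 1 ∧ Iv u x := by
  obtain ⟨y, hy, ho, hi⟩ := Core.exists_inverted_odd_of_not_mem_pCore_two (mk_sq h2) (by
    rw [eq_bot h (pCore 2 _) (sol_of_isPGroup (Core.isPGroup_pCore 2)), mem_bot, QuotientGroup.eq_one_iff]
    exact h1)
  obtain ⟨y0, rfl⟩ := QuotientGroup.mk_surjective y
  have h3 : ((constt ({2} : Set ℕ)ᶜ y0 : K) : K ⧸ center K) = y0 :=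
    (map_constt (QuotientGroup.mk' (center K)) _ y0).trans (constt_eq_self
      ((isPiNum_compl_singleton Nat.prime_two).2 ho.not_two_dvd_nat))
  have h4 := Pf.odd_constt y0
  rw [← h3] at hy hi
  generalize constt ({2} : Set ℕ)ᶜ y0 = x at hy hi h4
  have h5 : x * (u * x * u⁻¹) ∈ center K := by
    rw [← QuotientGroup.eq_one_iff, QuotientGroup.mk_mul, QuotientGroup.mk_mul, QuotientGroup.mk_mul,
      QuotientGroup.mk_inv, hi, mul_inv_cancel]
  have h6 : Commute x⁻¹ (u * x * u⁻¹) := by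
    have := mem_center_iff.1 h5 x⁻¹
    show _ = _
    calc x⁻¹ * (u * x * u⁻¹) = x⁻¹ * x⁻¹ * (x * (u * x * u⁻¹)) := by group
      _ = x⁻¹ * (x * (u * x * u⁻¹) * x⁻¹) := by rw [mul_assoc x⁻¹, this]
      _ = _ := by group
  refine ⟨x⁻¹ * (u * x * u⁻¹), ?_, fun h7 => hy ?_, ?_⟩
  · exact (Odd.mul (by rwa [orderOf_inv]) (by rwa [OO.orderOf_conj])).of_dvd_nat
      h6.orderOf_mul_dvd_mul_orderOf
  · rw [← inv_mul_eq_one.1 h7] at h5
    exact odd_sq_eq_one (h4.of_dvd_nat (orderOf_map_dvd (QuotientGroup.mk' _) x)) (mk_sq h5)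
  · have h7 := mem_center_iff.1 h2 x
    show _ = _
    calc u * (x⁻¹ * (u * x * u⁻¹)) * u⁻¹ = u * x⁻¹ * u⁻¹ * (u * u * x) * (u * u)⁻¹ := by group
      _ = _ := by rw [← h7]; group

theorem q3 (h : IsQuasisimple K) (h1 : u ∉ center K) (h2 : u * u ∈ center K) :
    ∃ g : K, u⁻¹ * (g * u * g⁻¹) ∉ center K ∧ ⁅u, g * u * g⁻¹⁆ ∈ center K := by
  by_contra hn
  push Not at hn
  have h3 := R1.zstar _ (u : K ⧸ center K) (mk_sq h2) fun g hg => by
    obtain ⟨g, rfl⟩ := QuotientGroup.mk_surjective g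
    by_contra h4
    refine hn g (fun h5 => h4 (QuotientGroup.eq.2 h5).symm) ?_
    rw [← QuotientGroup.eq_one_iff]
    exact (map_commutatorElement (QuotientGroup.mk' (center K)) _ _).trans
      (commutatorElement_eq_one_iff_mul_comm.2 hg)
  rw [eq_bot h (pPrimeCore 2 _) (GW.sol_of_odd (Nat.coprime_two_right.1 (Core.coprime_card_pPrimeCore 2)))] at h3
  have h4 : (u : K ⧸ center K) ∈ center (K ⧸ center K) := mem_center_iff.2 fun g => by
    have := mem_bot.1 (h3 g)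
    rw [mul_inv_eq_one, mul_inv_eq_iff_eq_mul] at this
    exact this
  rw [eq_bot h (center _) (sol_of_ab inferInstance), mem_bot, QuotientGroup.eq_one_iff] at h4
  exact h1 h4

theorem ex (h : IsQuasisimple K) : ∃ u : K, u ∉ center K ∧ u * u ∈ center K := by
  have := h.2
  have h1 : 2 ∣ ♯(⊤ : Subgroup (K ⧸ center K)) := by
    by_contra h1
    exact top_ne_bot (eq_bot h ⊤ (GW.sol_of_odd (Nat.not_even_iff_odd.1 fun h2 => h1 h2.two_dvd)))
  obtain ⟨z, -, h2, h3⟩ := R1.exists_invol_mem h1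
  obtain ⟨u, rfl⟩ := QuotientGroup.mk_surjective z
  exact ⟨u, fun h4 => h2 ((QuotientGroup.eq_one_iff _).2 h4), (QuotientGroup.eq_one_iff _).1 h3⟩

theorem mem_center' {G : Type u} [Group G] {J : Subgroup G} {a : J} : a ∈ center J ↔ (a : G) ∈ 𝐂(J) := by
  rw [mem_center_iff, mem_cent_iff]
  exact ⟨fun h x hx => congrArg Subtype.val (h ⟨x, hx⟩), fun h x => Subtype.ext (h x x.2)⟩

end Pq

open Pq

theorem q2 : Q2.{u} := by
  intro G _ _ J u h hu h1 h2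
  obtain ⟨x, h3, h4, h5⟩ := Pq.q2 (u := ⟨u, hu⟩) h (fun h3 => h1 (mem_center'.1 h3)) (mem_center'.2 h2)
  exact ⟨x, x.2, by rwa [orderOf_coe], fun h6 => h4 (Subtype.ext h6), congrArg Subtype.val h5⟩

theorem q3 : Q3.{u} := by
  intro G _ _ J u h hu h1 h2
  obtain ⟨g, h3, h4⟩ := Pq.q3 (u := ⟨u, hu⟩) h (fun h3 => h1 (mem_center'.1 h3)) (mem_center'.2 h2)
  exact ⟨g, g.2, fun h5 => h3 (mem_center'.2 h5), mem_center'.1 h4⟩

theorem q1 : Q1.{u} := by
  intro G _ _ J z hH h hz h2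
  obtain ⟨u, h3, h4⟩ := ex h
  obtain ⟨x, hx, ho, h5, hi⟩ := q2 G J u h u.2 (fun h5 => h3 (mem_center'.2 h5)) (mem_center'.1 h4)
  have h6 := le_cent1_iff.2 hz.2 u.2
  exact a1a G x z u u hH ho h5 (two_of_sq (h2 ▸ one_mem _) ZZ_two) (cent_le_cent1 hx hz.2) hi
    (iv_of_sq h2 h6) hi h6

theorem Pq.gen {G : Type u} [Group G] [Finite G] {J : Subgroup G} {u : G} (hH : H G)
    (h : IsQuasisimple J) (hu : u ∈ J) (h1 : u ∉ 𝐂(J)) (h2 : u * u ∈ 𝐂(J)) :
    ∃ d ∈ J, d ∉ 𝐂(J) ∧ Nice d ∧ Iv u d := by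
  obtain ⟨g, hg, h3, h4⟩ := RC.q3 G J u h hu h1 h2
  have hv : g * u * g⁻¹ ∈ J := mul_mem (mul_mem hg hu) (inv_mem hg)
  have h5 : g * u * g⁻¹ * (g * u * g⁻¹) = u * u := by
    rw [← mem_cent1_iff_conj.1 (le_cent1_iff.2 h2 hg)]; group
  generalize g * u * g⁻¹ = v at h3 h4 hv h5
  have hd := mul_mem (inv_mem hu) hv
  have h6 := sq_iv h5.symm
  have h7 : u⁻¹ * v * (u⁻¹ * v) ∈ 𝐂(J) := by
    have : u⁻¹ * v * (u⁻¹ * v) = (u * u)⁻¹ * (⁅u, v⁆ * (v * v)) := by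
      simp only [commutatorElement_def]; group
    rw [this, h5]
    exact mul_mem (inv_mem h2) (mul_mem h4 h2)
  exact ⟨_, hd, h3, q1 G J _ hH h ⟨J.mul_mem hd hd, h7⟩
    ((h6.mul_of_comm h6 rfl).sq_eq_one (le_cent1_iff.2 h7 hu)), h6⟩

theorem q4 : Q4.{u} := by
  intro G _ _ J hH h
  obtain ⟨u, h3, h4⟩ := ex h
  obtain ⟨d, hd, h5, h6, -⟩ := gen hH h u.2 (fun h5 => h3 (mem_center'.2 h5)) (mem_center'.1 h4)
  obtain ⟨e, he, h7, h8, h9⟩ := gen hH h hd h5 (ZZ_le_cent J h6)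
  have ge : Good e := ⟨fun h10 => h7 (ZZ_le_cent J h10), h8, d, h6, h9⟩
  obtain ⟨x, hx, ho, h10, hi⟩ := q2 G J e h he h7 (ZZ_le_cent J h8)
  obtain ⟨g, hg, h11, h12⟩ := RC.q3 G J e h he h7 (ZZ_le_cent J h8)
  have hv : g * e * g⁻¹ ∈ J := mul_mem (mul_mem hg he) (inv_mem hg)
  have h13 := comm_ZZ q1 hH h he hv h8 h12
  refine ⟨x, hx, e, he, _, hv, ho, h10, hi, ge, ge.conj g, ge.mul_conj h13 fun h14 => h11 (ZZ_le_cent J ?_),
    h13, h7, fun h14 => h7 ?_, fun h14 => h11 ?_⟩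
  · have := mem_CM1.1 (inv_mem (mem_CM1_comm.1 h14))
    rwa [show ⁅e⁻¹, g⁆ = e⁻¹ * (g * e * g⁻¹) by simp only [commutatorElement_def]; group] at this
  · simpa [mul_assoc] using conj_mem_of_norm' (norm_le_norm_cent J (le_norm_self J hg)) h14
  · have := mul_mem (inv_mem (ZZ_le_cent J h8)) h14
    rwa [show (e * e)⁻¹ * (e * (g * e * g⁻¹)) = e⁻¹ * (g * e * g⁻¹) by group] at this

end Cfsg.Agent.RC
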