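import Cfsg.Agent.Lib.RC.P0a

/-!
# Plan RC, package P3
-/

set_option autoImplicit false
set_option linter.unusedSectionVars false

namespace Cfsg.Agent.RC

open Subgroup Cfsg.Agent.OO Cfsg.Agent.Coprime GW GW2
open scoped commutatorElement Pointwise

universe u

theorem ui (fs : FS.{u}) (g4 : G4.{u}) (q4 : Q4.{u}) : UI.{u} := by
  intro G _ _ x e r T h he hi hr h2 hc
  have h1 : x ∈ 𝐂(T ⊓ 𝐂[x]) := le_cent1_iff.1 inf_le_right
  have h3 : T ⊓ 𝐂[x] ≤ 𝐂(𝐂(T ⊓ 𝐂[x])) := le_cent_symm le_rfl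
  have h4 : e ∉ 𝐂(O 𝐂(T ⊓ 𝐂[x])) := fun e1 => by
    obtain ⟨J, k1, k2⟩ := fs G _ x e h1 h.odd h.ne hi (bb G x T _ h (Op_isPGroup 2 _)
      ((Op_normal 2 _).norm h1) (le_norm_of_le_cent (h3.trans (cent_anti (Op_le 2 _))))) e1
    obtain ⟨-, -, a, ha, -, -, -, -, -, k3, -, -, -, k4, -⟩ := q4 G J h.h k2
    exact k4 (cent_anti k1 (h3 (h.mem_of k3.rl k3.nz (le_cent1_iff.2 (k1 ha)) (mem_cent1_self a)
      (cent_le_norm _ (k1 ha)) k3.nice.two)))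
  have h5 : 𝐍(T ⊓ 𝐂[x]) ≤ 𝐍(O 𝐂(T ⊓ 𝐂[x])) := le_norm_Opi _ (norm_le_norm_cent _)
  have h6 := h3.trans (cent_anti (Opi_le ({2} : Set ℕ)ᶜ _))
  have h7 : e * e ∈ T ⊓ 𝐂[x] := ⟨T.mul_mem he he, hi.mul_mem hi⟩
  obtain ⟨y, hy, y1, k1, k2⟩ := g4 G _ e r (odd_O _) (h5 (h.norm0 he)) (h5 hr) (h6 h7) (h6 h2)
    (h6 hc) h4
  have k3 := fun s => h.mem_of (u := s) k1.rl (not_mem_ZZ (odd_of_mem (odd_O _) hy) y1)
    (le_cent1_iff.2 (Opi_le _ _ hy))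
  rcases k2 with k2 | k2
  · exact (k3 r (mem_cent1_comm.1 k2) hr (two_of_sq h2 h.two0)).1
  · refine (mul_mem_cancel_left he).1 (k3 _ (mem_cent1_comm.1 k2) (mul_mem (h.norm0 he) hr)
      (two_of_sq ?_ h.two0)).1
    rw [show e * r * (e * r) = ⁅e, r⁆ * (r * (e * e) * r⁻¹) * (r * r) by
      simp only [commutatorElement_def]; group]
    exact mul_mem (mul_mem hc (conj_mem_of_norm hr h7)) h2

namespace Pc

variable {G : Type u} [Group G]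

/-- the elements mapping `d` to `d` or `d z` -/
def Kz (d : G) {z : G} (hz : z ∈ ZZ G) : Subgroup G where
  carrier := {g | g * d * g⁻¹ = d ∨ g * d * g⁻¹ = d * z}
  one_mem' := Or.inl (by group)
  mul_mem' := by
    intro a b ha hb
    have e : a * b * d * (a * b)⁻¹ = a * (b * d * b⁻¹) * a⁻¹ := by group
    have e' : a * (d * z) * a⁻¹ = a * d * a⁻¹ * z := by rw [← conj_mul, ZZ_conj hz]
    rcases hb with hb | hb
    · show _ ∨ _
      rw [e, hb]; exact ha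
    · show _ ∨ _
      rw [e, hb, e']
      rcases ha with ha | ha
      · exact Or.inr (by rw [ha])
      · exact Or.inl (by rw [ha, mul_assoc, hz.2, mul_one])
  inv_mem' := by
    rintro a (ha | ha)
    · exact Or.inl (by conv_lhs => rw [← ha]
                       group)
    · refine Or.inr ?_
      have : d = a * (d * z) * a⁻¹ := by rw [← conj_mul, ZZ_conj hz, ha, mul_assoc, hz.2, mul_one]
      conv_lhs => rw [this]
      group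

end Pc

open Pc in
theorem al (ui : UI.{u}) : AL.{u} := by
  intro G _ _ x w z T h hw hn hz hc ht
  have := Fact.mk Nat.prime_two
  obtain ⟨S, hS, hle⟩ := exists_syl_ge (M := ⊤) le_top h.two
  rcases hle.eq_or_lt with rfl | hlt
  · exact hS
  obtain ⟨r0, hr0, h0⟩ := SetLike.exists_of_lt (PGrp.lt_inf_normalizer hS.isPGroup hlt)
  obtain ⟨n, h1, h2⟩ := (two_of_mem hS.isPGroup hr0.1).exists_pow h0
  have hr : r0 ^ n ∈ S ⊓ 𝐍(T) := pow_mem hr0 n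
  generalize r0 ^ n = r at h1 h2 hr
  have hi : Iv w (w⁻¹ * (r * w * r⁻¹)) := sq_iv (hn.conj_sq r).symm
  have zc := ZZ_comm hz
  have k1 : T ≤ Kz (w⁻¹ * (r * w * r⁻¹)) hz := fun t h3 => by
    have e : t * (w⁻¹ * (r * w * r⁻¹)) * t⁻¹ =
        (t * w * t⁻¹)⁻¹ * (r * (r⁻¹ * t * r * w * (r⁻¹ * t * r)⁻¹) * r⁻¹) := by group
    have e' : r * (w * z) * r⁻¹ = r * w * r⁻¹ * z := by rw [← conj_mul, ZZ_conj hz]
    show _ ∨ _
    rw [e]
    rcases ht t h3 with e1 | e1 <;> rcases ht _ (conj_mem_of_norm' hr.2 h3) with e2 | e2 <;>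
      rw [e1, e2]
    · exact .inl rfl
    · exact .inr (by rw [e', ← mul_assoc])
    · exact .inr (by rw [mul_inv_rev, ZZ_inv hz, mul_assoc, ← zc])
    · exact .inl (by rw [e', mul_inv_rev, ZZ_inv hz, mul_assoc, ← zc, ← mul_assoc, mul_assoc _ z,
        hz.2, mul_one])
  have k2 : r ∈ Kz (w⁻¹ * (r * w * r⁻¹)) hz := by
    have e : r * (w⁻¹ * (r * w * r⁻¹)) * r⁻¹ = (r * w * r⁻¹)⁻¹ * (r * r * w * (r * r)⁻¹) := by group
    have e' : (r * w * r⁻¹)⁻¹ * w = w * (w⁻¹ * (r * w * r⁻¹)) * w⁻¹ := by rw [hi]; group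
    show _ ∨ _
    rw [e]
    rcases ht _ h2 with e1 | e1 <;> rw [e1]
    · rw [e']; exact k1 hw
    · rw [← mul_assoc, e']
      rcases k1 hw with e2 | e2 <;> rw [e2]
      · exact .inr rfl
      · exact .inl (by rw [mul_assoc, hz.2, mul_one])
  have k3 : T ⊔ zpowers r ≤ S := sup_le hle (zpowers_le.2 hr.1)
  have k4 := sup_le k1 (zpowers_le.2 k2)
  have k5 : w⁻¹ * (r * w * r⁻¹) ∈ ZZ G := by
    refine h.mem_ZZ_of_card (Q := (T ⊔ zpowers r) ⊓ 𝐂[_]) hi.rl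
      (hS.isPGroup.to_le (inf_le_left.trans k3)) inf_le_right ?_
    have k6 := two_mul_card_le (lt_of_le_of_ne (le_sup_left : T ≤ T ⊔ zpowers r)
      fun e => h1 (e.ge (mem_sup_right (mem_zpowers r))))
    have k7 := card_le_two_mul (A := T ⊔ zpowers r) (B := 𝐂[w⁻¹ * (r * w * r⁻¹)])
      fun a ha b hb e1 e2 => by
        rw [mem_cent1_iff_conj] at e1 e2 ⊢
        generalize w⁻¹ * (r * w * r⁻¹) = d at *
        calc _ = a * (b * d * b⁻¹) * a⁻¹ := by group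
          _ = a * d * a⁻¹ * (a * z * a⁻¹) := by rw [(k4 hb).resolve_left e2]; group
          _ = d := by rw [(k4 ha).resolve_left e1, ZZ_conj hz, mul_assoc, hz.2, mul_one]
    have := h.card
    have := card_pos' (T ⊓ 𝐂[x])
    omega
  have k6 : r ∈ 𝐍(T ⊓ 𝐂[x]) := hc ▸ mem_norm_inf hr.2 (mem_norm_of_conj_le (by
    rw [← cent1_conj, ← mul_inv_cancel_left w (r * w * r⁻¹), cent1_mul_ZZ k5]))
  have k7 : r * r ∈ T ⊓ 𝐂[x] := hc ▸ mem_inf.2 ⟨h2, mem_cent1_iff_conj.2 (by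
    calc _ = r * w * r⁻¹ * (r * (w⁻¹ * (r * w * r⁻¹)) * r⁻¹) := by group
      _ = w * (w⁻¹ * (r * w * r⁻¹) * (w⁻¹ * (r * w * r⁻¹))) := by rw [ZZ_conj k5]; group
      _ = w := by rw [k5.2, mul_one])⟩
  obtain ⟨e, he, hx⟩ := h.exists_iv
  have k8 := conj_mem_of_norm hr.2 (inv_mem he)
  refine absurd (ui G x e r T h he hx k6 k7 ?_) h1
  rw [show ⁅e, r⁆ = e * (r * e⁻¹ * r⁻¹) by simp only [commutatorElement_def]; group]
  exact ⟨T.mul_mem he k8, hx.mul_mem (h.iv k8 fun e1 => h.not_cent hx.inv_left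
    ((mem_normalizer_iff.1 k6 _).2 ⟨k8, e1⟩).2)⟩

theorem be1 (al : AL.{u}) : BE1.{u} := by
  intro G _ _ x w ε h hB ho h1 hw hc hx hε
  by_contra hz
  obtain ⟨n, h2, h3⟩ := hw.exists_pow hz
  obtain ⟨T, hT, -⟩ := h.cfg ho h1 hx.rl bot_le IsPGroup.of_bot
  obtain ⟨g, -, k1, k2, k3⟩ := a1b G x _ ε T hT (hw.pow n) (pow_mem hc n) hx (hε.pow n) h2
  have k4 : Nice (g * w ^ n * g⁻¹) := Nice.conj h3 g
  have k5 : g * w ^ n * g⁻¹ ∉ ZZ G := fun e => h2 (mem_ZZ_conj.1 e)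
  generalize g * w ^ n * g⁻¹ = v at k1 k2 k3 k4 k5
  have k6 : ∀ t ∈ T, t ∉ 𝐂[x] → t ∉ 𝐂[v] := fun t ht e e' =>
    k5 (a1a G x v t t h ho h1 k4.two k1.2 (hT.iv ht e) (k3 t ht e) (hT.iv ht e) e')
  refine hB x T hT (al G x v _ T hT k1.1 k4 (inv_mem k4) (le_antisymm
    (fun t ht => ⟨ht.1, by_contra fun e => k6 t ht.1 e ht.2⟩) (le_inf inf_le_left k2)) fun t ht => ?_)
  by_cases e : t ∈ 𝐂[x]
  · exact .inl (mem_cent1_iff_conj.1 (k2 ⟨ht, e⟩))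
  · exact .inr ((k3 t ht e).trans (by group))

theorem be3 (ui : UI.{u}) (al : AL.{u}) (be1 : BE1.{u}) : BE3.{u} := by
  intro G _ _ x w T h hB hw hc hr
  have := Fact.mk Nat.prime_two
  by_contra hz
  obtain ⟨e, he, hx⟩ := h.exists_iv
  have h0 := h.norm0 he
  by_cases h2 : w * w = 1
  · have k1 := conj_mem_of_norm h0 hw
    have k2 : T ⊓ 𝐂[x] ≤ 𝐂[e * w * e⁻¹] := by
      rw [cent1_conj, ← conj_eq_of_mem_norm h0]; exact conj_mono e hc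
    have k3 : Nice w := by rw [Nice, h2]; exact one_mem _
    have k4 : w⁻¹ * (e * w * e⁻¹) * (w⁻¹ * (e * w * e⁻¹)) = 1 :=
      Iv.sq_eq_one (sq_iv (k3.conj_sq e).symm) (mem_cent1_comm.1 (hc (mul_mem (inv_mem hw) k1)))
    have k5 : w⁻¹ * (e * w * e⁻¹) ∈ ZZ G := h.mem_ZZ_of_le (rl_of_sq k4) (h.le_of he hx
      (fun t ht => mem_cent1_comm.1 (mul_mem (inv_mem (mem_cent1_comm.1 (hc ht)))
        (mem_cent1_comm.1 (k2 ht)))) (Iv.mem_cent (by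
        show _ = _
        calc _ = (e * w * e⁻¹)⁻¹ * (e * e * w * (e * e)⁻¹) := by group
          _ = _ := by
            rw [mem_cent1_iff_conj.1 (hc ⟨T.mul_mem he he, hx.mul_mem hx⟩)]; group) k4))
    refine hB x T h (al G x w _ T h hw.1 k3 k5 (le_antisymm (fun t ht => ⟨ht.1, by_contra fun e1 =>
      hz (h.mem_ZZ_of_le hr (h.le_of ht.1 (h.iv ht.1 e1) hc ht.2))⟩) (le_inf inf_le_left hc))
      fun t ht => ?_)
    by_cases e1 : t ∈ 𝐂[x]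
    · exact .inl (mem_cent1_iff_conj.1 (hc ⟨ht, e1⟩))
    · refine .inr ?_
      calc _ = e * (e⁻¹ * t * w * (e⁻¹ * t)⁻¹) * e⁻¹ := by group
        _ = _ := by
          rw [mem_cent1_iff_conj.1 (hc ⟨T.mul_mem (inv_mem he) ht, hx.inv_left.mul_mem (h.iv ht e1)⟩)]
          group
  obtain ⟨R, hR, k1⟩ := exists_syl_ge (hc.trans (cent_le_CS w)) h.two0
  obtain ⟨ρ, hρ, k2⟩ := syl_exists_iv hR hr
  have k3 : R ⊓ 𝐂[w] = T ⊓ 𝐂[x] := (h.syl_cent hr hz hc).eq_of_le (le_inf k1 hc) inf_le_right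
    (hR.isPGroup.to_le inf_le_left)
  have k4 : ρ ∈ 𝐍(T ⊓ 𝐂[x]) := k3 ▸ mem_norm_inf (le_norm_self R hρ) (CS_le_norm w (hR.le hρ))
  have k5 : ρ * ρ ∈ T ⊓ 𝐂[x] := k3 ▸ mem_inf.2 ⟨R.mul_mem hρ hρ, k2.mul_mem k2⟩
  obtain ⟨S, hS, k6⟩ := exists_syl_ge h.norm0 h.two
  obtain ⟨z, hzS, z1, z2, z3⟩ := Core.exists_central_mod hS.isPGroup hS.le
    fun e1 => h.not_cent hx (e1 (k6 he)).2
  have z4 : z ∈ T := ui G x e z T h he hx (hS.le hzS) (pow_two z ▸ z2) (by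
    rw [← commutatorElement_inv]; exact inv_mem (z3 e (k6 he)))
  obtain ⟨n, hn, k7⟩ := hS.exists_conj_le (zpowers_le.2 k4) (two_of_mem hR.isPGroup hρ).pgroup
  have k8 := k7 (conj_mem_conj (mem_zpowers ρ))
  have k9 : n * ρ * n⁻¹ ∈ T := ui G x z _ T h z4 (h.iv z4 fun e1 => z1 ⟨z4, e1⟩) (hS.le k8)
    (by rw [conj_mul]; exact conj_mem_of_norm hn k5) (z3 _ k8)
  have k10 := conj_mem_of_norm hn hw
  exact hz (mem_ZZ_conj.1 (be1 G x _ _ h.h hB h.odd h.ne (two_of_mem h.two0 k10) k10.2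
    (h.iv k9 fun e1 => h2 (k2.sq_eq_one (hc ((mem_normalizer_iff.1 hn _).2 ⟨k9, e1⟩)))) (k2.conj n)))

end Cfsg.Agent.RC
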