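import Cfsg.Agent.Lib.RC.P0a

/-!
# Plan RC, package P4
-/

set_option autoImplicit false
set_option linter.unusedSectionVars false

namespace Cfsg.Agent.RC

open Subgroup Cfsg.Agent.OO Cfsg.Agent.Coprime GW GW2
open scoped commutatorElement Pointwise

universe u

theorem n0 (be1 : BE1.{u}) : N0.{u} := by
  intro G _ _ x e t T h hB he hi hn ht
  have h1 : e⁻¹ * (t * e * t⁻¹) ∈ T ⊓ 𝐂[x] := by
    rw [show e⁻¹ * (t * e * t⁻¹) = e⁻¹ * t * e * t⁻¹ by group]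
    exact mul_mem (conj_mem_of_norm' (h.norm0 he) ht) (inv_mem ht)
  have h2 := be1 G x _ e h.h hB h.odd h.ne (two_of_mem h.two0 h1) h1.2 hi (sq_iv (hn.conj_sq t).symm)
  exact mem_CM1.1 (inv_mem_iff.1 (mem_CM1.2 (by
    rwa [show ⁅e⁻¹, t⁆ = e⁻¹ * (t * e * t⁻¹) by simp only [commutatorElement_def]; group])))

theorem gp (be1 : BE1.{u}) (be3 : BE3.{u}) (bs : BS.{u}) (nr : NR.{u}) : GP.{u} := by
  intro G _ _ x e y h hB hy ho hi hn hc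
  have := Fact.mk Nat.prime_two
  by_contra h1
  obtain ⟨ρ, r1, r2⟩ := hy.inv
  have k0 : ∀ a ∈ 𝐂[y], ∀ g, Odd (orderOf a) → Iv g a → Iv g y → a = 1 := fun a ha g e1 e2 e3 =>
    by_contra fun e4 => hy.nz (be1 G a y g h hB e1 e4 hy.nice.two (mem_cent1_comm.1 ha) e2 e3)
  have k1 : ρ ∈ Op 2 (CS y) := bs G _ ρ r2.mem_CS r1 fun a ha e1 e2 =>
    k0 a (mem_of_sq_mem e1 ((mem_CS'.1 ha).elim (fun e3 => mul_mem e3 e3) fun e3 => e3.mul_mem e3))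
      ρ e1 e2 r2
  have k2 : Syl 2 (Op 2 𝐂[y]) 𝐂[y] := nr G _ fun a ha g hg e1 e2 => by
    by_cases y2 : y * y = 1
    · exact k0 a ha g e1 e2 (iv_of_sq y2 hg)
    have k3 : zpowers a ≤ 𝐍(Op 2 (CS y)) := zpowers_le.2 ((Op_normal 2 _).norm (cent_le_CS y ha))
    have k4 : ¬ Op 2 (CS y) ⊓ 𝐂(zpowers a) ≤ 𝐂[y] := fun e3 => y2 (r2.sq_eq_one ((coprime_cent_prod k3
      (coprime_of_isPGroup (Op_isPGroup 2 _) (odd_iff.1 (by rwa [Nat.card_zpowers])))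
      (.inl (sol_of_isPGroup (Op_isPGroup 2 _)))).ge.trans (sup_le (commutator_le.2 fun w hw b hb => by
        have k5 := zpowers_le.2 ha hb
        exact mul_mem (conj_mem_of_norm (CS_le_norm y (Op_le 2 _ hw)) k5) (inv_mem k5)) e3) k1))
    obtain ⟨s, hs, e3⟩ := SetLike.not_le_iff_exists.1 k4
    exact k0 a ha (g * s) e1 (e2.mul_cent (cent_zpowers a ▸ hs.2))
      ((iv_of_mem (Op_le 2 _ hs.1) e3).cent_mul hg)
  have hyx := mem_cent1_comm.1 hc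
  obtain ⟨T, hT, k3⟩ := h.cfg ho h1 hi.rl (zpowers_le.2 (cent_le_CS x hyx)) hy.nice.two.pgroup
  have k4 : y ∈ T ⊓ 𝐂[x] := ⟨k3 (mem_zpowers y), hyx⟩
  obtain ⟨g, hg, k5⟩ := hT.conj_mem hi.mem_CS hn.two
  have k6 := hi.conj_cent hg
  have k7 := hn.conj g
  generalize g * e * g⁻¹ = f at k5 k6 k7
  have k8 : T ⊓ 𝐂[x] ≤ 𝐍(Op 2 𝐂[y]) := le_norm_Op 2 fun t ht => CM1_le_norm_cent (mem_CM1_comm.1
    ((mul_mem_cancel_left (mem_CM1.2 (n0 be1 G x f t T hT hB k5 k6 k7 ht))).1 (mem_CM1.2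
      (n0 be1 G x _ t T hT hB (mul_mem k5 k4.1) (k6.mul_cent hyx)
        (k7.mul hy.nice (n0 be1 G x f y T hT hB k5 k6 k7 k4)) ht))))
  have k9 := hT.syl0.le_of_norm (le_cent1_iff.2 (bb G x T _ hT k2.isPGroup ((Op_normal 2 _).norm hc) k8))
    k2.isPGroup (.inl k8)
  exact hy.nz (be3 G x y T hT hB k4 ((eq_of_le_of_card_le k9 (hT.ge hy.rl hy.nz k2)).ge.trans k2.le)
    hy.rl)

theorem t3 (bs : BS.{u}) (gp : GP.{u}) : T3.{u} := fun G _ _ e f h hB he hf hc =>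
  bs G _ f (mem_CM1.2 hc) hf fun x hx ho hi => gp G x f e h hB he ho hi hf (odd_CM ho hx)

end Cfsg.Agent.RC
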