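import Cfsg.Agent.Lib.RC.P0a

/-!
# Plan RC, package P5
-/

set_option autoImplicit false
set_option linter.unusedSectionVars false

namespace Cfsg.Agent.RC

open Subgroup Cfsg.Agent.OO Cfsg.Agent.Coprime GW GW2
open scoped commutatorElement Pointwise

universe u

section

variable {G : Type u} [Group G] [Finite G] {x e f a b t : G} {T M J : Subgroup G}

theorem comm_mem_cent_of_CM {Y : Set G} (ha : a ∈ CM Y) (hb : b ∈ CM Y) : ⁅a, b⁆ ∈ centralizer Y :=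
  fun y hy => by
    have h1 : ∀ {c : G}, c ∈ CM Y → ⁅c, y⁆ * ⁅c⁻¹, y⁆ = 1 := fun hc => by
      rw [← comm_mul_of_ZZ (inv_mem hc y hy), mul_inv_cancel, commutatorElement_one_left]
    refine (commutatorElement_eq_one_iff_mul_comm.1 ?_).symm
    rw [commutatorElement_def a b, comm_mul_of_ZZ (inv_mem hb y hy), comm_mul_of_ZZ (inv_mem ha y hy),
      comm_mul_of_ZZ (hb y hy), ZZ_comm (inv_mem ha y hy), ← mul_assoc, ZZ_comm (ha y hy), h1 ha,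
      one_mul, h1 hb]

theorem quasi_le_cent {Y : Set G} (hJ : IsQuasisimple J) (h : J ≤ CM Y) : J ≤ centralizer Y := by
  rw [← Core.commutator_eq_of_isQuasisimple hJ, commutator_le]
  exact fun a ha b hb => comm_mem_cent_of_CM (h ha) (h hb)

theorem mem_of_iv (ho : Odd (orderOf x)) (hi : Iv e x) (hx : x ∈ 𝐍(M)) (he : e ∈ M) : x ∈ M := by
  have h1 := mul_mem (conj_mem_of_norm hx he) (inv_mem he)
  rw [show x * e * x⁻¹ * e⁻¹ = x * (e * x * e⁻¹)⁻¹ by group, hi, inv_inv] at h1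
  exact mem_of_sq_mem ho h1

theorem iv_comm (hf : Nice f) (t : G) : Iv f ⁅t, f⁆ := by
  have h1 := (sq_iv' (hf.inv.conj_sq t)).inv_left
  rwa [inv_inv, show (t * f⁻¹ * t⁻¹)⁻¹ * f⁻¹ = ⁅t, f⁆ by simp only [commutatorElement_def]; group] at h1

/-- a conjugate commuting modulo `ZZ G` gives good products -/
theorem Good.mul_conj (he : Good e) (h1 : ⁅e, t * e * t⁻¹⁆ ∈ ZZ G) (h2 : t ∉ CM {e}) :
    Good (e * (t * e * t⁻¹)) := by
  have h3 : Good (e⁻¹ * (t * e * t⁻¹)) := by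
    refine ⟨fun h4 => h2 (mem_CM1_comm.1 (inv_mem_iff.1 (mem_CM1.2 ?_))),
      he.nice.inv.mul (he.nice.conj t) (mem_CM1.1 (inv_mem (mem_CM1.2 h1))), e, he.nice,
      sq_iv (he.nice.conj_sq t).symm⟩
    rwa [show ⁅e⁻¹, t⁆ = e⁻¹ * (t * e * t⁻¹) by simp only [commutatorElement_def]; group]
  have := h3.ZZ_mul he.nice
  rwa [show e * e * (e⁻¹ * (t * e * t⁻¹)) = e * (t * e * t⁻¹) by group] at this

end

theorem comp (n0 : N0.{u}) (fs : FS.{u}) (g4 : G4.{u}) (q4 : Q4.{u}) : COMP.{u} := by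
  intro G _ _ x e f T Y h big he hi ge nf hef hZ hY hYf hno hmax
  have hxY : x ∈ 𝐂(Y) := le_cent1_iff.1 (hY.le.trans inf_le_right)
  have hx : x ∈ CM (Y : Set G) := cent_le_CM _ hxY
  have heM : e ∈ CM (Y : Set G) := fun y hy => n0 G x e y T h big he hi ge.nice (hY.le hy)
  have hfM : f ∈ CM (Y : Set G) := le_CM1_iff.1 hYf
  set M := CM (Y : Set G) with hM
  have hP : Y < T ⊓ 𝐂[x] ⊓ 𝐍(Y) := PGrp.lt_inf_normalizer h.two0 hY
  set P := T ⊓ 𝐂[x] ⊓ 𝐍(Y)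
  have hP2 : IsPGroup 2 P := h.two0.to_le inf_le_left
  have heP : e ∈ CM (P : Set G) := fun y hy => n0 G x e y T h big he hi ge.nice hy.1
  have hxP : x ∈ 𝐂(P) := le_cent1_iff.1 (inf_le_left.trans inf_le_right)
  have hW : x ∈ 𝐂(Op 2 M) := by
    refine zpowers_le.1 (thompson_AxB (p := 2) hP2 ?_ ?_ (Op_isPGroup 2 M)
      (inf_le_right.trans (norm_le_norm_CM.trans (norm_le_norm_Op 2 M)))
      (zpowers_le_of_mem ((Op_normal 2 M).norm hx)) ?_)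
    · rw [Nat.card_zpowers]; exact Nat.coprime_two_right.2 h.odd
    · exact le_cent_symm (zpowers_le_of_mem hxP)
    refine le_cent_symm (zpowers_le_of_mem ?_)
    by_contra hn
    set W := Op 2 M ⊓ 𝐂(P)
    have hW2 : IsPGroup 2 W := (Op_isPGroup 2 M).to_le inf_le_left
    have hxW : x ∈ 𝐍(W) := mem_norm_inf ((Op_normal 2 M).norm hx) (le_norm_self _ hxP)
    have heW : e ∈ 𝐍(W) := mem_norm_inf ((Op_normal 2 M).norm heM)
      (norm_le_norm_cent P (CM_le_norm (hZ.trans hP.le) heP))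
    have h1 : e ∉ CM (W : Set G) := fun h2 =>
      hn (odd_CM h.odd (mem_of_iv h.odd hi (norm_le_norm_CM hxW) h2))
    have h2 : IsPGroup 2 ↥(W ⊔ zpowers e) :=
      isPGroup_sup hW2 ge.nice.two.pgroup (Or.inr (zpowers_le_of_mem heW))
    have h3 : (W ⊔ zpowers e) ⊓ CM {e} < W ⊔ zpowers e := lt_of_le_of_ne inf_le_left fun h4 =>
      h1 (le_CM1_iff.1 (le_sup_left.trans (h4.ge.trans inf_le_right)))
    obtain ⟨w, ⟨hw1, hw2⟩, hw3⟩ := SetLike.exists_of_lt (PGrp.lt_inf_normalizer h2 h3)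
    obtain ⟨w0, hw0, a, ha, rfl⟩ := (mem_sup_norm_left (zpowers_le_of_mem heW)).1 hw1
    have ha' : a ∈ 𝐂[e] := zpowers_le_of_mem (mem_cent1_self e) ha
    have h4 : w0 * a * e * (w0 * a)⁻¹ = w0 * e * w0⁻¹ := by
      conv_rhs => rw [← mem_cent1_iff_conj.1 ha']
      group
    have h5 := (conj_mem_of_norm hw2 (x := e) ⟨mem_sup_right (mem_zpowers e),
      cent_le_CM _ (mem_cent1_self e)⟩).2
    rw [h4] at h5
    have h6 : ⁅e, w0 * e * w0⁻¹⁆ ∈ ZZ G := comm_ZZ_symm (mem_CM1.1 h5)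
    have h7 := hmax x e _ T ⟨h, he, hi, ge, ge.conj w0,
      ge.mul_conj h6 fun h8 => hw3 ⟨hw1, mul_mem h8 (cent_le_CM _ ha')⟩, h6⟩
    refine (card_lt hP).not_ge ((card_le (le_inf inf_le_left fun t ht => ?_)).trans h7)
    rw [conj_CM1, ← mem_cent_iff_conj.1 hw0.2 t ht, conj_mem_conj_iff]
    exact le_CM1_iff.2 heP ht
  have hD : e ∈ 𝐂(O M) := by
    by_contra hn
    obtain ⟨y, hy, h1, h2, h3⟩ := g4 G (O M) e f (odd_O M) (O_norm M heM) (O_norm M hfM)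
      (ZZ_le_cent _ ge.nice) (ZZ_le_cent _ nf) (ZZ_le_cent _ hef) hn
    have ho : Odd (orderOf y) := (odd_O M).of_dvd_nat (orderOf_dvd_card hy)
    exact h1 (hno y (odd_CM ho (Opi_le _ M hy)) ho h2 h3)
  obtain ⟨J, hJM, hJ⟩ := fs G M x e hx h.odd h.ne hi hW hD
  have hJY : J ≤ 𝐂(Y) := quasi_le_cent hJ hJM
  obtain ⟨x', hx', e', he', f', hf', ho, h1, hi', g1, g2, g3, h2, -⟩ := q4 G J h.h hJ
  have h3 : Y ≤ 𝐂[x'] := le_cent1_iff.2 (hJY hx')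
  obtain ⟨T', h4, h5⟩ := h.h.cfg (Q := Y ⊔ zpowers e') ho h1 hi'.rl
    (sup_le (h3.trans (cent_le_CS _)) (zpowers_le_of_mem hi'.mem_CS))
    (isPGroup_sup (h.two0.to_le hY.le) g1.nice.two.pgroup
      (Or.inr (zpowers_le_of_mem (cent_le_norm _ (hJY he')))))
  exact ⟨x', e', f', T', ⟨h4, h5 (mem_sup_right (mem_zpowers _)), hi', g1, g2, g3, h2⟩,
    le_inf (le_sup_left.trans h5) h3, hJY he', hJY hf'⟩

namespace Pe

variable {G : Type u} [Group G] [Finite G] {x e f y : G} {T : Subgroup G}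

theorem nc (gp : GP.{u}) (big : Big G) (h : Str x T e f) (hy : Good y) : y ∉ 𝐂[x] := fun h1 =>
  h.ne (gp G x e y h.h big hy h.odd h.ex h.ge.nice (mem_cent1_comm.1 h1))

theorem notin (gp : GP.{u}) (big : Big G) (h : Str x T e f) : f ∉ T := fun h1 =>
  nc gp big h h.gef (h.ex.mul_mem (h.toCfg.iv h1 (nc gp big h h.gf)))

theorem lt (ui : UI.{u}) (h : Cfg x T) (he : e ∈ T) (hi : Iv e x) (hf : Nice f)
    (hef : ⁅e, f⁆ ∈ ZZ G) (hT : f ∉ T) : T ⊓ 𝐂[x] ⊓ CM {f} < T ⊓ 𝐂[x] :=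
  lt_of_le_of_ne inf_le_left fun h1 => hT (ui G x e f T h he hi
    (CM_le_norm h.ZZ_le (le_CM1_iff.1 (h1.ge.trans inf_le_right))) (h.ZZ_le hf) (h.ZZ_le hef))

theorem fin (n0 : N0.{u}) (gp : GP.{u}) (t3 : T3.{u}) (ui : UI.{u}) (cp : COMP.{u}) (big : Big G)
    (h : Str x T e f) (he : e ∈ 𝐂(T ⊓ 𝐂[x] ⊓ CM {f})) (hf : f ∈ 𝐂(T ⊓ 𝐂[x] ⊓ CM {f}))
    (hmax : ∀ (x' e' f' : G) (T' : Subgroup G), Str x' T' e' f' →
      ♯(T' ⊓ 𝐂[x'] ⊓ CM {f'}) ≤ ♯(T ⊓ 𝐂[x] ⊓ CM {f})) : False := by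
  have c := h.toCfg
  have hfT := notin gp big h
  have hY := lt ui c h.eT h.ex h.gf.nice h.ef hfT
  set Y := T ⊓ 𝐂[x] ⊓ CM {f} with hYd
  obtain ⟨t0, ⟨ht1, ht2⟩, ht3⟩ := SetLike.exists_of_lt (PGrp.lt_inf_normalizer c.two0 hY)
  obtain ⟨n, htY, ht4⟩ := (two_of_mem c.two0 ht1).exists_pow ht3
  have ht : t0 ^ n ∈ T ⊓ 𝐂[x] := pow_mem ht1 n
  have htn : t0 ^ n ∈ 𝐍(Y) := pow_mem ht2 n
  generalize t0 ^ n = t at htY ht4 ht htn
  have hte : t ∈ CM {e} := mem_CM1.2 (comm_ZZ_symm (n0 G x e t T c big h.eT h.ex h.ge.nice ht))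
  have hfO := t3 G e f h.h big h.ge h.gf.nice (comm_ZZ_symm h.ef)
  have hgO : ⁅t, f⁆ ∈ Op 2 (CM {e}) :=
    mul_mem (conj_mem_of_norm ((Op_normal 2 _).norm hte) hfO) (inv_mem hfO)
  have hgt : Iv t ⁅t, f⁆ := by
    have h1 := mem_cent_iff.1 hf _ ht4
    show _ = _
    calc t * ⁅t, f⁆ * t⁻¹ = (t * t * f) * t⁻¹ * f⁻¹ * t⁻¹ := by
          simp only [commutatorElement_def]; group
      _ = _ := by rw [h1]; simp only [commutatorElement_def]; group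
  have hgY : ⁅t, f⁆ ∈ 𝐂(Y) := mul_mem (conj_mem_of_norm (norm_le_norm_cent _ htn) hf) (inv_mem hf)
  obtain ⟨k, gi⟩ := exists_good_pow (two_of_mem (Op_isPGroup 2 _) hgO)
    (fun h1 => htY ⟨ht, mem_CM1.2 h1⟩) h.gf.nice (iv_comm h.gf.nice t)
  have hiO : ⁅t, f⁆ ^ k ∈ Op 2 (CM {e}) := pow_mem hgO k
  have hiY : ⁅t, f⁆ ^ k ∈ 𝐂(Y) := pow_mem hgY k
  have hif := (iv_comm h.gf.nice t).pow k
  have hit := hgt.pow k
  generalize ⁅t, f⁆ ^ k = i at gi hiO hiY hif hit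
  have hei : ⁅e, i⁆ ∈ ZZ G := comm_ZZ_symm (mem_CM1.1 (Op_le 2 _ hiO))
  have hfi := gi.nice.comm_of_iv hif
  have hYi : Y ≤ 𝐂[i] := le_cent1_iff.2 hiY
  have hiT : i ∈ T := by
    by_contra hiT
    have h1 : Y < T ⊓ 𝐂[x] ⊓ CM {i} := lt_of_le_of_ne (le_inf hY.le (hYi.trans (cent_le_CM _)))
      fun h2 => htY (h2.ge ⟨ht, mem_CM1.2 (gi.nice.comm_of_iv hit)⟩)
    obtain ⟨x', e', f', T', h2, h3, -, h4⟩ := cp G x e i T _ c big h.eT h.ex h.ge gi.nice hei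
      (le_inf c.ZZ_le (ZZ_le_CM _)) (lt ui c h.eT h.ex gi.nice hei hiT) inf_le_right
      (fun y hy ho hey h5 => by
        by_contra h6
        rcases h5 with h5 | h5
        · exact h6 (gp G y e i h.h big gi ho hey h.ge.nice h5)
        have h7 : Y ≤ 𝐂[y] := h1.le.trans (le_cent1_iff.2 hy)
        have heO := t3 G e e h.h big h.ge h.ge.nice (by simp)
        obtain ⟨T', h8, h9⟩ := h.h.cfg (Q := (Y ⊔ Op 2 (CM {e})) ⊓ CS y) ho h6 hey.rl inf_le_right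
          ((isPGroup_sup (c.two0.to_le hY.le) (Op_isPGroup 2 _) (Or.inl (((le_cent1_iff.2 he).trans
            (cent_le_CM _)).trans (Op_normal 2 _).norm))).to_le inf_le_left)
        have h10 := hmax y e f T' ⟨h8, h9 ⟨mem_sup_right heO, hey.mem_CS⟩, hey, h.ge, h.gf, h.gef, h.ef⟩
        have h11 := mem_cent1_comm.1 h5
        refine (card_lt (lt_of_le_of_ne (le_inf (le_inf ((le_inf le_sup_left
          (h7.trans (cent_le_CS y))).trans h9) h7) inf_le_right) fun h12 => hiT ?_)).not_ge h10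
        exact (mul_mem_cancel_left h.eT).1 (h12.ge ⟨⟨h9 ⟨mem_sup_right (mul_mem heO hiO),
          cent_le_CS y h11⟩, h11⟩, (CM {f}).mul_mem (mem_CM1.2 h.ef) (mem_CM1.2 (comm_ZZ_symm hfi))⟩).1.1)
      fun x' e' f' T' h5 => (hmax x' e' f' T' h5).trans (card_le h1.le)
    exact (card_lt h1).not_ge ((card_le (le_inf h3 ((le_cent1_iff.2 h4).trans (cent_le_CM _)))).trans
      (hmax x' e' f' T' h2))
  have hix := c.iv hiT (nc gp big h gi)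
  have h1 : T ≤ CM {i} := c.le_of hiT hix (fun s hs => mem_CM1.2
    (comm_ZZ_symm (n0 G x i s T c big hiT hix gi.nice hs))) (cent_le_CM _ (mem_cent1_self i))
  obtain ⟨R, hR, hTR⟩ := exists_syl_ge h1 c.two
  have hfR : f ∈ R := Op_le_syl hR (t3 G i f h.h big gi h.gf.nice hfi)
  have h2 : T ⊓ 𝐂[x] ≤ 𝐍(R ⊓ 𝐂[i]) := (inf_le_left.trans hTR).trans
    (le_norm_inf (le_norm_self R) (hR.le.trans CM1_le_norm_cent))
  have h3 := card_sup_mul_card_inf (Or.inr h2)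
  have h4 : ♯(R ⊓ 𝐂[i]) ≤ ♯(T ⊓ 𝐂[x]) := c.le gi.rl gi.nz (hR.isPGroup.to_le inf_le_left) inf_le_right
  have h5 : ♯Y ≤ ♯(R ⊓ 𝐂[i] ⊓ (T ⊓ 𝐂[x])) :=
    card_le (le_inf (le_inf (hY.le.trans (inf_le_left.trans hTR)) hYi) hY.le)
  have hfX : f ∈ R ⊓ 𝐂[i] ⊔ T ⊓ 𝐂[x] := (mul_mem_cancel_right (mem_sup_right ht)).1
    (mem_sup_left ⟨mul_mem hfR (hTR ht.1), hif.mul_mem hit⟩)
  have h6 : f •ᶜ (T ⊓ 𝐂[x]) ⊓ (T ⊓ 𝐂[x]) ≤ Y := by
    rintro _ ⟨h7, h8⟩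
    obtain ⟨s, hs, rfl⟩ := mem_conj_iff_exists.1 h7
    have h9 : ⁅s, f⁆ ∈ T ⊓ 𝐂[x] := by
      rw [← inv_mem_iff, commutatorElement_inv]; exact mul_mem h8 (inv_mem hs)
    have h10 : s ∈ Y := by
      by_contra h11
      obtain ⟨m, h12⟩ := exists_good_pow (two_of_mem c.two0 h9) (fun h13 => h11 ⟨hs, mem_CM1.2 h13⟩)
        h.gf.nice (iv_comm h.gf.nice s)
      exact nc gp big h h12 (pow_mem h9 m).2
    rwa [mem_cent_iff_conj.1 hf s h10]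
  have h7 := IsProd.of_card_le (conj_le_of_mem hfX le_sup_right) le_sup_right (by
    rw [card_conj]
    exact (Nat.mul_le_mul_left _ ((card_le h6).trans h5)).trans
      (h3.le.trans (Nat.mul_le_mul_right _ h4)))
  obtain ⟨_, h8, b, hb, h9⟩ := h7.mem_iff.1 hfX
  obtain ⟨a, ha, rfl⟩ := mem_conj_iff_exists.1 h8
  have h10 : f = b * a := by
    have : b = (f * a * f⁻¹)⁻¹ * f := eq_inv_mul_iff_mul_eq.2 h9
    rw [this]; group
  exact hfT (h10 ▸ (mul_mem hb ha).1)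

end Pe

open Pe in
theorem main2 (n0 : N0.{u}) (gp : GP.{u}) (t3 : T3.{u}) (ui : UI.{u}) (q4 : Q4.{u})
    (cp : COMP.{u}) : MAIN2.{u} := by
  classical
  intro G _ _ J h big hJ
  obtain ⟨x0, -, e0, -, f0, -, ho, h1, hi, g1, g2, g3, h2, -⟩ := q4 G J h hJ
  obtain ⟨T0, h3, h4⟩ := h.cfg1 ho h1 hi g1.nice.two
  let p : ℕ → Prop := fun n => ∃ (x e f : G) (T : Subgroup G), Str x T e f ∧
    ♯(T ⊓ 𝐂[x] ⊓ CM {f}) = n
  have h5 : ∀ (x e f : G) (T : Subgroup G), Str x T e f →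
      ♯(T ⊓ 𝐂[x] ⊓ CM {f}) ≤ Nat.findGreatest p (Nat.card G) := fun x e f T h6 =>
    Nat.le_findGreatest (card_le_card_group _) ⟨x, e, f, T, h6, rfl⟩
  obtain ⟨x, e, f, T, h6, h7⟩ : p (Nat.findGreatest p (Nat.card G)) :=
    Nat.findGreatest_spec (card_le_card_group _) ⟨x0, e0, f0, T0, ⟨h3, h4, hi, g1, g2, g3, h2⟩, rfl⟩
  rw [← h7] at h5
  have c := h6.toCfg
  obtain ⟨x', e', f', T', h8, h9, h10, h11⟩ := cp G x e f T _ c big h6.eT h6.ex h6.ge h6.gf.nice h6.ef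
    (le_inf c.ZZ_le (ZZ_le_CM _)) (lt ui c h6.eT h6.ex h6.gf.nice h6.ef (notin gp big h6)) inf_le_right
    (fun y _ ho hey h12 => h12.elim (gp G y e f h big h6.gf ho hey h6.ge.nice)
      (gp G y e _ h big h6.gef ho hey h6.ge.nice)) h5
  have h12 := eq_of_le_of_card_le (le_inf h9 ((le_cent1_iff.2 h11).trans (cent_le_CM _)))
    (h5 x' e' f' T' h8)
  rw [h12] at h5 h10 h11
  exact fin n0 gp t3 ui cp big h8 h10 h11 h5

end Cfsg.Agent.RC
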