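import Cfsg.Agent.Lib.RC.P5

/-!
# Plan RC, package P6
-/

set_option autoImplicit false
set_option linter.unusedSectionVars false

namespace Cfsg.Agent.RC

open Subgroup Cfsg.Agent.OO Cfsg.Agent.Coprime GW GW2
open scoped commutatorElement Pointwise

universe u

section

variable {G : Type u} [Group G] [Finite G] {x w e a b t u v n : G} {T L : Subgroup G}

theorem fix_of_cent (ho : Odd (orderOf x)) (h3 : w⁻¹ * (x * w * x⁻¹) ∈ 𝐂[x])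
    (h2 : Two (w⁻¹ * (x * w * x⁻¹))) : w ∈ 𝐂[x] := by
  set u := w⁻¹ * (x * w * x⁻¹) with hud
  have h4 : ∀ k : ℕ, x ^ k * w * (x ^ k)⁻¹ = w * u ^ k := fun k => by
    induction k with
    | zero => simp
    | succ k ih =>
      have h5 : x * u ^ k * x⁻¹ = u ^ k := mem_cent1_iff_conj.1 (mem_cent1_comm.1 (pow_mem h3 k))
      calc x ^ (k + 1) * w * (x ^ (k + 1))⁻¹ = x * (x ^ k * w * (x ^ k)⁻¹) * x⁻¹ := by group
        _ = w * (w⁻¹ * (x * w * x⁻¹)) * (x * u ^ k * x⁻¹) := by rw [ih]; group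
        _ = _ := by rw [h5, ← hud, pow_succ', mul_assoc]
  have h5 := h4 (orderOf x)
  rw [pow_orderOf_eq_one, one_mul, inv_one, mul_one, left_eq_mul] at h5
  have h6 : u = 1 := h2.eq_one (ho.of_dvd_nat (orderOf_dvd_of_pow_eq_one h5))
  rw [hud, inv_mul_eq_one] at h6
  exact mem_cent1_comm.1 (mem_cent1_iff_conj.2 h6.symm)

theorem cent_or_iv (h : Cfg x T) (hT : Syl 2 T ⊤) (hr : Rl v) (hn : Nice v) (h2 : v * v ≠ 1)
    (ht : ⁅t, v⁆ ∈ ZZ G) : t ∈ 𝐂[v] ∨ Iv t v := by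
  obtain ⟨ρ, hρ⟩ := hr
  refine or_iff_not_imp_left.2 fun h1 => ?_
  have h3 := m2 G x v t ρ T h hT hρ.rl (fun h4 => h2 h4.2) ht (hn.comm_of_iv hρ) h1
    fun h4 => h2 (hρ.sq_eq_one h4)
  show _ = _
  rw [conj_eq_comm_mul, h3, ← conj_eq_comm_mul, hρ]

theorem comm_ZZ (q1 : Q1.{u}) (h : H G) (hL : IsQuasisimple L) (ha : a ∈ L) (hb : b ∈ L) (hn : Nice a)
    (hc : ⁅a, b⁆ ∈ 𝐂(L)) : ⁅a, b⁆ ∈ ZZ G := by
  refine q1 G L _ h hL ⟨L.mul_mem (L.mul_mem (mul_mem ha hb) (inv_mem ha)) (inv_mem hb), hc⟩ ?_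
  have h1 : ⁅a * a, b⁆ = a * ⁅a, b⁆ * a⁻¹ * ⁅a, b⁆ := by simp only [commutatorElement_def]; group
  rw [mem_cent_iff.1 hc a ha, mul_inv_cancel_right] at h1
  rw [← h1, commutatorElement_eq_one_iff_mul_comm, ZZ_comm hn]

theorem exists_conj_syl (q1 : Q1.{u}) (q3 : Q3.{u}) (h : Sm L) (hT : Syl 2 T ⊤) (hN : T ≤ 𝐍(L))
    (hu : u ∈ L) (hc : u ∉ 𝐂(L)) (hn : Nice u) (hM : T ≤ CM {u}) :
    ∃ g ∈ L, g * u * g⁻¹ ∈ T ∧ u⁻¹ * (g * u * g⁻¹) ∉ 𝐂(L) ∧ ⁅u, g * u * g⁻¹⁆ ∈ ZZ G := by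
  obtain ⟨g, hg, h1, h2⟩ := q3 G L u h.comp.2 hu hc (ZZ_le_cent L hn)
  have h3 : g * u * g⁻¹ ∈ L := mul_mem (mul_mem hg hu) (inv_mem hg)
  have h4 := mem_CM1.2 (comm_ZZ_symm (comm_ZZ q1 h.hyp h.comp.2 hu h3 hn h2))
  obtain ⟨k, hk, h5⟩ := (syl_inf hT hN hM).exists_conj_le (zpowers_le_of_mem ⟨h4, h3⟩)
    (hn.conj g).two.pgroup
  have h6 : k * g * u * (k * g)⁻¹ = k * (g * u * g⁻¹) * k⁻¹ := by group
  refine ⟨k * g, mul_mem hk.2 hg, h6 ▸ (h5 (conj_mem_conj (mem_zpowers _))).1, fun h7 => h1 ?_,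
    comm_ZZ_symm (mem_CM1.1 (h6 ▸ (CM {u}).mul_mem (mul_mem hk.1 h4) (inv_mem hk.1)))⟩
  have h8 := conj_mem_of_norm' (norm_le_norm_cent L (le_norm_self L hk.2)) h7
  have h9 : u⁻¹ * (g * u * g⁻¹) = u⁻¹ * ⁅k⁻¹, u⁆ * u⁻¹⁻¹ * (k⁻¹ * (u⁻¹ * (k * g * u * (k * g)⁻¹)) * k) := by
    simp only [commutatorElement_def]; group
  rw [h9, ZZ_conj (mem_CM1.1 (inv_mem hk.1))]
  exact mul_mem (ZZ_le_cent L (mem_CM1.1 (inv_mem hk.1))) h8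

namespace Pf

theorem odd_constt (a : G) : Odd (orderOf (constt ({2} : Set ℕ)ᶜ a)) :=
  Nat.not_even_iff_odd.1 fun h7 =>
    (isPiNum_compl_singleton Nat.prime_two).1 (piElt_constt _ a) h7.two_dvd

theorem omega (h : Cfg x T) (hT : Syl 2 T ⊤) (he : e ∈ T) (hi : Iv e x) (hr : Rl e)
    (hn : n ∈ 𝐍(T ⊓ 𝐂[x])) (ho : Odd (orderOf n)) (hu : u ∈ Zc (T ⊓ 𝐂[x])) (h2 : u * u = 1) :
    u ∈ 𝐂[n] := by
  have hZ : ∀ {g u : G}, g ∈ 𝐍(T ⊓ 𝐂[x]) → u ∈ Zc (T ⊓ 𝐂[x]) → g * u * g⁻¹ ∈ Zc (T ⊓ 𝐂[x]) :=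
    fun hg hu => ⟨conj_mem_of_norm hg hu.1, conj_mem_of_norm (norm_le_norm_cent _ hg) hu.2⟩
  have h0 : ∀ {u v : G}, u ∈ Zc (T ⊓ 𝐂[x]) → v ∈ Zc (T ⊓ 𝐂[x]) → u * u = 1 → v * v = 1 →
      u * v ∈ 𝐂[e] → u * v ∈ ZZ G := fun {u v} hu hv h2 h3 h4 => h.mem_ZZ_of_le (rl_of_sq (by
        have := mem_cent_iff.1 hu.2 v hv.1
        calc u * v * (u * v) = u * (v * u) * v := by group
          _ = (u * u) * (v * v) := by rw [this]; group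
          _ = 1 := by rw [h2, h3, mul_one]))
      (h.le_of he hi (le_cent1_iff.2 (mul_mem hu hv).2) (mem_cent1_comm.1 h4))
  have hc : ∀ {g u : G}, u * u = 1 → g * u * g⁻¹ * (g * u * g⁻¹) = 1 := fun {g u} h2 => by
    rw [show g * u * g⁻¹ * (g * u * g⁻¹) = g * (u * u) * g⁻¹ by group, h2]; group
  have h1 : ∀ {u : G}, u ∈ Zc (T ⊓ 𝐂[x]) → u * u = 1 → ⁅u, e⁆ ∈ ZZ G := fun {u} hu h2 => by
    have h3 := hZ (h.norm0 he) hu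
    have h4 : ⁅u, e⁆ = u * (e * u * e⁻¹) := by
      rw [commutatorElement_def, ← mul_eq_one_iff_eq_inv.1 h2]; group
    rw [h4]
    refine h0 hu h3 h2 (hc h2) (mem_cent1_comm.1 (mem_cent1_iff_conj.2 ?_))
    have h5 := mem_cent_iff.1 hu.2 (e * e) ⟨mul_mem he he, hi.mul_mem hi⟩
    calc e * (u * (e * u * e⁻¹)) * e⁻¹ = e * u * e⁻¹ * ((e * e * u) * (e * e)⁻¹) := by group
      _ = e * u * e⁻¹ * u := by rw [h5]; group
      _ = _ := mem_cent_iff.1 hu.2 _ h3.1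
  by_cases hz : u ∈ ZZ G
  · exact ZZ_le_cent1 n hz
  have h3 := hZ hn hu
  have h4 : ∀ {u : G}, u ∈ Zc (T ⊓ 𝐂[x]) → u * u = 1 → u ∉ ZZ G → u ∉ 𝐂[e] := fun hu h2 hz h5 =>
    hz (by simpa using h0 hu (one_mem _) h2 (mul_one 1) (by simpa using h5))
  have h5 := m2 G x e u _ T h hT hr (fun h6 => h.not_cent hi (ZZ_le_cent1 x h6)) (h1 hu h2)
    (h1 h3 (hc h2)) (h4 hu h2 hz) (h4 h3 (hc h2) fun h6 => hz (mem_ZZ_conj.1 h6))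
  have h6 := h0 hu h3 h2 (hc h2) (by
    rw [mem_cent1, ← commutatorElement_eq_one_iff_mul_comm, comm_mul_of_ZZ (h1 h3 (hc h2)), ← h5,
      (h1 hu h2).2])
  have h7 : u⁻¹ * (n * u * n⁻¹) ∈ ZZ G := by rwa [← mul_eq_one_iff_eq_inv.1 h2]
  exact fix_of_cent ho (ZZ_le_cent1 n h7) (two_of_mem ZZ_two h7)

theorem ncent (h : Cfg x T) (hT : Syl 2 T ⊤) (he : e ∈ T) (hi : Iv e x) (hr : Rl e)
    (hx : n ∈ 𝐂[x]) (hn : n ∈ 𝐍(T ⊓ 𝐂[x])) (ha : a ∈ Zc (T ⊓ 𝐂[x])) : n ∈ 𝐂[a] := by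
  refine mem_of_constt_mem (π := {2}) (le_cent1_iff.2 ha.2 (h.syl0.mem_of_mem_norm
    (constt_mem _ hx) (constt_mem _ hn) (piElt_constt _ n))) (mem_cent1_comm.1 ?_)
  have ho := odd_constt n
  have hn' := constt_mem ({2} : Set ℕ)ᶜ hn
  generalize constt ({2} : Set ℕ)ᶜ n = m at ho hn'
  by_contra h1
  obtain ⟨k, h2, h3⟩ := (two_of_mem h.two0 ha.1).exists_pow h1
  have h4 := pow_mem ha k
  generalize a ^ k = b at h2 h3 h4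
  have h5 : b⁻¹ * (m * b * m⁻¹) ∈ Zc (T ⊓ 𝐂[x]) := mul_mem (inv_mem h4)
    ⟨conj_mem_of_norm hn' h4.1, conj_mem_of_norm (norm_le_norm_cent _ hn') h4.2⟩
  have h6 : Iv b (b⁻¹ * (m * b * m⁻¹)) := sq_iv (by
    rw [← mem_cent1_iff_conj.1 (mem_cent1_comm.1 h3)]; group)
  exact h2 (fix_of_cent ho (omega h hT he hi hr hn' ho h5
    (h6.sq_eq_one (le_cent1_iff.2 h5.2 h4.1))) (two_of_mem h.two0 h5.1))

theorem burn (h : Cfg x T) (hT : Syl 2 T ⊤) (he : e ∈ T) (hi : Iv e x) (hr : Rl e)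
    (hx : n ∈ 𝐂[x]) (ha : a ∈ Zc (T ⊓ 𝐂[x])) (hb : T ⊓ 𝐂[x] ≤ 𝐂[n * a * n⁻¹]) :
    n * a * n⁻¹ = a := by
  have h1 : Syl 2 (T ⊓ 𝐂[x]) (𝐂[x] ⊓ 𝐂[n * a * n⁻¹]) := h.syl0.mono (le_inf inf_le_right hb) inf_le_left
  obtain ⟨k, hk, h2⟩ := h1.exists_conj_le (Q := n •ᶜ (T ⊓ 𝐂[x])) (le_inf (conj_le_of_mem hx inf_le_right)
    (by rw [cent1_conj]; exact conj_mono n (le_cent1_iff.2 ha.2))) (isPGroup_conj.2 h.two0)
  rw [conj_conj] at h2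
  have h3 := mem_cent1_iff_conj.1 (ncent h hT he hi hr (mul_mem hk.1 hx) (mem_norm_of_conj_le h2) ha)
  rw [← mem_cent1_iff_conj.1 hk.2]
  conv_rhs => rw [← h3]
  group

end Pf

end

open Pf

theorem rr : RR.{u} := by
  intro G _ _ x e a T h hT he hi _ hr ha hea
  obtain ⟨k, hk⟩ := two_of_mem h.two0 ha
  induction k generalizing a with
  | zero => rw [pow_zero, pow_one] at hk; rw [hk, cent1_one]; exact le_top
  | succ k ih =>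
  by_cases hz : a ∈ ZZ G
  · exact le_cent1_iff.2 (ZZ_le_cent _ hz)
  obtain ⟨g, hg, h1, h2, h3⟩ := a1b G x a e T h (two_of_mem h.two0 ha) ha.2 hi hea hz
  have h4 := ih (a * a) (mul_mem ha ha) (hea.mul_of_comm hea rfl)
    (by rw [← sq, ← pow_mul, ← pow_succ', hk])
  have h5 : g * (a * a) * g⁻¹ = g * a * g⁻¹ * (g * a * g⁻¹) := by group
  have h6 := burn h hT he hi hr hg ⟨mul_mem ha ha, le_cent1_iff.1 h4⟩ (by
    rw [h5]; exact le_cent1_iff.2 (mul_mem (le_cent1_iff.1 h2) (le_cent1_iff.1 h2)))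
  rw [h5] at h6
  have h7 := h3 e he (h.not_cent hi)
  generalize g * a * g⁻¹ = b at h1 h2 h6 h7
  have h8 : b⁻¹ * a ∈ T ⊓ 𝐂[x] := mul_mem (inv_mem h1) ha
  have h9 : Iv e (b⁻¹ * a) := h7.inv_right.mul_of_comm hea (mem_cent1.1 (inv_mem (mem_cent1_comm.1 (h2 ha))))
  have h10 := a1a G x _ e e h.h h.odd h.ne (two_of_mem h.two0 h8) h8.2 hi h9 hi
    (h9.mem_cent ((sq_iv h6).sq_eq_one (mem_cent1_comm.1 (h2 h8))))
  rwa [← cent1_mul_ZZ (y := b) h10, mul_inv_cancel_left] at h2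

namespace Pf

variable {G : Type u} [Group G] [Finite G] {x w e b g ε : G} {T L : Subgroup G}

theorem star (s : Sm L) (hno : ∀ (x w : G) (T : Subgroup G), ¬ Tri L x T w) (h : Cfg x T) (hx : x ∈ L)
    (he : e ∈ T ⊓ L) (hi : Iv e x) (ge : Good e) (hb : b ∈ L) (h2 : Two b) (hc : b ∈ 𝐂[x])
    (h3 : Iv ε x) (h4 : Iv ε b) : b ∈ ZZ G := by
  by_contra hz
  obtain ⟨g, hg, h5, h6, h7⟩ := a1b G x b ε T h h2 hc h3 h4 hz
  obtain ⟨n, h8, h9⟩ := (h2.conj g).exists_pow fun h8 => hz (mem_ZZ_conj.1 h8)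
  have h10 := (h7 e he.1 (h.not_cent hi)).pow n
  exact hno x _ T ⟨s, h, hx,
    pow_mem (conj_mem_of_norm (s.CS_le hx h.odd h.ne (cent_le_CS x hg)) hb) n, pow_mem h5 n,
    h6.trans (cent1_le_of_mem_zpowers (pow_mem (mem_zpowers _) n)), h9,
    fun h11 => h8 (a1a G x _ e e h.h h.odd h.ne ((h2.conj g).pow n) (pow_mem h5 n).2 hi h10 hi
      (h10.mem_cent h11)), fun t ht h11 => (h7 t ht h11).pow n, e, he, hi, ge.nice, ge.rl⟩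

theorem key (q1 : Q1.{u}) (q3 : Q3.{u}) (s : Sm L) (hno : ∀ (x w : G) (T : Subgroup G), ¬ Tri L x T w)
    (h : Cfg x T) (hx : x ∈ L) (he : e ∈ T ⊓ L) (hi : Iv e x) (ge : Good e) (hc : e ∉ 𝐂(L)) :
    ∃ g ∈ L, g * e * g⁻¹ ∈ T ⊓ 𝐂[x] ∧ e⁻¹ * (g * e * g⁻¹) ∉ 𝐂(L) ∧ T ≤ CM {g * e * g⁻¹} := by
  have hN : T ≤ 𝐍(L) := h.syl.le.trans (s.CS_le hx h.odd h.ne)
  have h1 : ∀ {f : G}, f ∈ T ⊓ L → Nice f → Iv f x → T ⊓ 𝐂[x] ≤ CM {f} := fun {f} hf hn h3 t ht => by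
    have h2 : ⁅t, f⁆ ∈ T ⊓ 𝐂[x] := by
      rw [← inv_mem_iff, commutatorElement_inv]
      exact mul_mem (conj_mem_of_norm (h.norm0 hf.1) ht) (inv_mem ht)
    exact mem_CM1.2 (star s hno h hx he hi ge (mul_mem (conj_mem_of_norm (hN ht.1) hf.2) (inv_mem hf.2))
      (two_of_mem h.two0 h2) h2.2 h3 (iv_comm hn t))
  obtain ⟨g, hg, h2, h3, h4⟩ := exists_conj_syl q1 q3 s (s.small x T h) hN he.2 hc ge.nice
    (h.le_of he.1 hi (h1 he ge.nice hi) (cent_le_CM _ (mem_cent1_self e)))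
  have h5 : g * e * g⁻¹ ∈ L := L.mul_mem (mul_mem hg he.2) (inv_mem hg)
  have h6 : g * e * g⁻¹ ∈ 𝐂[x] := by
    by_contra h6
    exact h3 (ZZ_le_cent L (star s hno h hx he hi ge (mul_mem (inv_mem he.2) h5)
      (two_of_mem h.two (mul_mem (inv_mem he.1) h2)) (hi.inv_left.mul_mem (h.iv h2 h6)) hi
      (sq_iv (ge.nice.conj_sq g).symm)))
  refine ⟨g, hg, ⟨h2, h6⟩, h3, h.le_of he.1 hi (fun t ht => mem_CM1_comm.1 ?_) (mem_CM1.2 h4)⟩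
  exact (mul_mem_cancel_left (mem_CM1_comm.1 (h1 he ge.nice hi ht))).1 (mem_CM1_comm.1
    (h1 (mul_mem he ⟨h2, h5⟩) (ge.nice.mul (ge.nice.conj g) h4) (hi.mul_cent h6) ht))

theorem case1 (q1 : Q1.{u}) (q3 : Q3.{u}) (s : Sm L) (hno : ∀ (x w : G) (T : Subgroup G), ¬ Tri L x T w)
    (h : Cfg x T) (hx : x ∈ L) (he : e ∈ T ⊓ L) (hi : Iv e x) (ge : Good e) (hc : e ∉ 𝐂(L)) :
    e * e = 1 := by
  by_contra h2
  obtain ⟨g, hg, h3, -, h4⟩ := key q1 q3 s hno h hx he hi ge hc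
  have gv := ge.conj g
  have h5 : ∀ t ∈ T, Iv t x → t ∈ 𝐂[g * e * g⁻¹] := fun t ht h6 =>
    (cent_or_iv h (s.small x T h) gv.rl gv.nice (by rwa [ge.nice.conj_sq]) (mem_CM1.1 (h4 ht))).resolve_right
      fun h7 => gv.nz (star s hno h hx he hi ge (L.mul_mem (mul_mem hg he.2) (inv_mem hg)) gv.nice.two h3.2
        h6 h7)
  exact gv.nz (h.mem_ZZ_of_le gv.rl (h.le_of he.1 hi (fun t ht => (mul_mem_cancel_left
    (h5 e he.1 hi)).1 (h5 _ (mul_mem he.1 ht.1) (hi.mul_cent ht.2))) (h5 e he.1 hi)))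

theorem _root_.Cfsg.Agent.RC.Tri.facts (h : Tri L x T w) : w ∉ ZZ G ∧ Rl w ∧ w ∉ 𝐂(L) := by
  obtain ⟨e, he, hi, -⟩ := h.ex
  have h1 := h.inv e he.1 (h.toCfg.not_cent hi)
  exact ⟨fun h2 => h.w2 h2.2, h1.rl, fun h2 => h.w2 (h1.sq_eq_one (le_cent1_iff.2 h2 he.2))⟩

theorem closed (nr : NR.{u}) (h : H G) (h2 : b * b = 1) (hz : b ∉ ZZ G) : Syl 2 (Op 2 𝐂[b]) 𝐂[b] :=
  nr G _ fun y hy e he ho hi => by
    by_contra h1
    exact hz (a1a G y b e e h ho h1 (two_of_sq (h2 ▸ one_mem _) ZZ_two) (mem_cent1_comm.1 hy) hi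
      (iv_of_sq h2 he) hi he)

theorem sq_one (hn : Nice w) (hc : g * w * g⁻¹ ∈ 𝐂[w]) :
    w⁻¹ * (g * w * g⁻¹) * (w⁻¹ * (g * w * g⁻¹)) = 1 :=
  (sq_iv (hn.conj_sq g).symm).sq_eq_one (mem_cent1_comm.1 (mul_mem (inv_mem (mem_cent1_self w)) hc))

theorem aa0 (nr : NR.{u}) (h : Tri L x T w) (hc : g * w * g⁻¹ ∈ 𝐂[w])
    (hP : Op 2 𝐂[w⁻¹ * (g * w * g⁻¹)] ⊓ 𝐂[w] ≤ T ⊓ 𝐂[x]) : w⁻¹ * (g * w * g⁻¹) ∈ ZZ G := by
  by_contra hz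
  have c := h.toCfg
  have hT := h.small x T c
  obtain ⟨e, he, hi, ne, re⟩ := h.ex
  have h2 := sq_one h.nice hc
  have hS := closed nr h.hyp h2 hz
  have hvw : w⁻¹ * (g * w * g⁻¹) ∈ 𝐂[w] := mul_mem (inv_mem (mem_cent1_self w)) hc
  have n' := h.nice.conj g
  have r' := h.facts.2.1.conj g
  have s' : g * w * g⁻¹ * (g * w * g⁻¹) ≠ 1 := by rw [h.nice.conj_sq]; exact h.w2
  rw [show g * w * g⁻¹ = w * (w⁻¹ * (g * w * g⁻¹)) by group] at n' r' s'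
  generalize w⁻¹ * (g * w * g⁻¹) = v at hP hz h2 hS hvw n' r' s'
  have hw : w ∈ Op 2 𝐂[v] :=
    le_Op_of_syl hS (zpowers_le_of_mem (mem_cent1_comm.1 hvw)) h.nice.two.pgroup (mem_zpowers w)
  have hv : v ∈ Op 2 𝐂[v] := le_Op_of_syl hS (zpowers_le_of_mem (mem_cent1_self v))
    (two_of_sq (h2 ▸ one_mem _) ZZ_two).pgroup (mem_zpowers v)
  have h3 : x ∈ 𝐂(Op 2 𝐂[v]) := by
    refine zpowers_le.1 (thompson_AxB (p := 2) (P := Op 2 𝐂[v] ⊓ 𝐂[x])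
      (hS.isPGroup.to_le inf_le_left) ?_ ?_ hS.isPGroup (le_norm_of_le inf_le_left)
      (zpowers_le_of_mem ((Op_normal 2 _).norm (mem_cent1_comm.1 (hP ⟨hv, hvw⟩).2))) ?_)
    · rw [Nat.card_zpowers]; exact Nat.coprime_two_right.2 h.odd
    · show _ ≤ 𝐂(zpowers x)
      rw [cent_zpowers]; exact inf_le_right
    · show _ ≤ 𝐂(zpowers x)
      rw [cent_zpowers]
      exact ((inf_le_inf_left _ (cent_le_cent1 (mem_inf.2 ⟨hw, h.wT.2⟩))).trans hP).trans inf_le_right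
  obtain ⟨k, hk, h4⟩ := c.syl0.exists_conj_le (le_cent1_iff.2 h3) hS.isPGroup
  have h5 := eq_of_le_of_card_le h4 (by rw [card_conj, c.card_syl (rl_of_sq h2) hz hS])
  have h6 : T ⊓ 𝐂[x] ≤ 𝐂[k * v * k⁻¹] := by rw [← h5, cent1_conj]; exact conj_mono k hS.le
  have ha := h4 (conj_mem_conj hw)
  have ha' := h4 (conj_mem_conj (mul_mem hw hv))
  have h7 : ∀ {a : G}, a * a ≠ 1 → k * a * k⁻¹ * (k * a * k⁻¹) ≠ 1 := fun {a} h8 h9 => h8 (by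
    rwa [show k * a * k⁻¹ * (k * a * k⁻¹) = k * (a * a) * k⁻¹ by group, conj_eq_one_iff] at h9)
  have h8 : Iv e (k * w * k⁻¹) := (cent_or_iv c hT (h.facts.2.1.conj k) (h.nice.conj k) (h7 h.w2)
    (ll G x e _ T c he.1 hi ne ha (h.nice.conj k))).resolve_left fun h9 => h7 h.w2
      (a1a G x _ _ e c.h c.odd c.ne (h.nice.conj k).two ha.2 (hi.conj_cent hk)
        ((h.inv e he.1 (c.not_cent hi)).conj k) hi h9).2
  have h9 := rr G x e _ T c hT he.1 hi ne re ha h8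
  have h10 : k * (w * v) * k⁻¹ = k * w * k⁻¹ * (k * v * k⁻¹) := by group
  rcases cent_or_iv c hT (r'.conj k) (n'.conj k) (h7 s') (ll G x e _ T c he.1 hi ne ha' (n'.conj k))
    with h11 | h11
  · refine h7 s' (c.mem_ZZ_of_le (r'.conj k) (c.le_of he.1 hi ?_ h11)).2
    rw [h10]; exact le_cent1_iff.2 (mul_mem (le_cent1_iff.1 h9) (le_cent1_iff.1 h6))
  · have h12 := h8.inv_right.mul_of_comm h11 (mem_cent1.1 (inv_mem (mem_cent1_comm.1 (h9 ha'))))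
    rw [h10, inv_mul_cancel_left] at h12
    have h13 : k * v * k⁻¹ * (k * v * k⁻¹) = 1 := by
      rw [show k * v * k⁻¹ * (k * v * k⁻¹) = k * (v * v) * k⁻¹ by group, h2]; group
    exact hz (mem_ZZ_conj.1 (c.mem_ZZ_of_le (rl_of_sq h13) (c.le_of he.1 hi h6 (h12.mem_cent h13))))

end Pf

theorem tri (q1 : Q1.{u}) (q3 : Q3.{u}) (q4 : Q4.{u}) : TRI.{u} := by
  intro G _ _ L s
  by_contra hno
  push Not at hno
  obtain ⟨x, hx, e, he, -, -, ho, h1, hi, ge, -, -, -, hc, -⟩ := q4 G L s.hyp s.comp.2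
  obtain ⟨T, h, hT⟩ := s.hyp.cfg1 ho h1 hi ge.nice.two
  have h2 := case1 q1 q3 s hno h hx ⟨hT, he⟩ hi ge hc
  obtain ⟨g, hg, h3, h4, h5⟩ := key q1 q3 s hno h hx ⟨hT, he⟩ hi ge hc
  have h6 : g * e * g⁻¹ * (g * e * g⁻¹) = 1 := by rw [ge.nice.conj_sq, h2]
  have h7 := case1 q1 q3 s hno h hx (mul_mem ⟨hT, he⟩ ⟨h3.1, L.mul_mem (mul_mem hg he) (inv_mem hg)⟩)
    (hi.mul_cent h3.2) (ge.mul_conj (mem_CM1.1 (h5 hT)) fun h7 => h4 (ZZ_le_cent L (by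
      have := mem_CM1.1 (inv_mem (mem_CM1_comm.1 h7))
      rwa [show ⁅e⁻¹, g⁆ = e⁻¹ * (g * e * g⁻¹) by simp only [commutatorElement_def]; group] at this)))
    (by rwa [← mul_eq_one_iff_eq_inv.1 h2] at h4)
  have h8 : e ∈ 𝐂[g * e * g⁻¹] := by
    generalize g * e * g⁻¹ = v at h6 h7
    rw [mem_cent1, mul_eq_one_iff_eq_inv.1 h7, mul_inv_rev, ← mul_eq_one_iff_eq_inv.1 h2,
      ← mul_eq_one_iff_eq_inv.1 h6]
  exact (ge.conj g).nz (a1a G x _ e e h.h ho h1 (ge.conj g).nice.two h3.2 hi (iv_of_sq h6 h8) hi h8)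

/-- a sharper form of `AA` -/
theorem aa' (nr : NR.{u}) {G : Type u} [Group G] [Finite G] {L T : Subgroup G} {x w g : G}
    (h : Tri L x T w) (hc : g * w * g⁻¹ ∈ 𝐂[w]) : w⁻¹ * (g * w * g⁻¹) ∈ ZZ G := by
  obtain ⟨k, hk, h1⟩ := (h.toCfg.syl_cent h.facts.2.1 h.facts.1 h.wZ).exists_conj_le
    (Q := Op 2 𝐂[w⁻¹ * (g * w * g⁻¹)] ⊓ 𝐂[w]) inf_le_right ((Op_isPGroup 2 _).to_le inf_le_left)
  have h2 : w⁻¹ * (k * g * w * (k * g)⁻¹) = k * (w⁻¹ * (g * w * g⁻¹)) * k⁻¹ := by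
    calc w⁻¹ * (k * g * w * (k * g)⁻¹) = (k * w * k⁻¹)⁻¹ * (k * g * w * (k * g)⁻¹) := by
          rw [mem_cent1_iff_conj.1 hk]
      _ = _ := by group
  have h3 := aa0 nr (g := k * g) h (by
    rw [show k * g * w * (k * g)⁻¹ = k * (g * w * g⁻¹) * k⁻¹ by group]
    exact mul_mem (mul_mem hk hc) (inv_mem hk)) (by
    rwa [h2, cent1_conj, Op_conj, ← conj_eq_of_mem hk, ← conj_inf])
  rwa [h2, mem_ZZ_conj] at h3

theorem aa (nr : NR.{u}) : AA.{u} := fun _ _ _ L _ _ _ _ h _ hc => ZZ_le_cent L (aa' nr h (h.wZ hc))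

end Cfsg.Agent.RC
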