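import Cfsg.Agent.Lib.RC.P0a

/-!
# Plan RC, package P7
-/

set_option autoImplicit false
set_option linter.unusedSectionVars false

namespace Cfsg.Agent.RC

open Subgroup Cfsg.Agent.OO Cfsg.Agent.Coprime GW GW2
open scoped commutatorElement Pointwise

universe u

namespace Kd

variable {G : Type u} [Group G] [Finite G] {x w v b c g u : G} {L T X : Subgroup G}

theorem tri_conj (h : Tri L x T w) (hg : g ∈ L) :
    Tri L (g * x * g⁻¹) (g •ᶜ T) (g * w * g⁻¹) where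
  toSm := h.toSm
  toCfg := h.toCfg.conj g
  xL := mul_mem (mul_mem hg h.xL) (inv_mem hg)
  wL := mul_mem (mul_mem hg h.wL) (inv_mem hg)
  wT := by rw [cent1_conj, ← conj_inf]; exact conj_mem_conj h.wT
  wZ := by rw [cent1_conj, cent1_conj, ← conj_inf]; exact conj_mono g h.wZ
  nice := h.nice.conj g
  w2 := by rw [h.nice.conj_sq]; exact h.w2
  inv := fun t ht e => by
    obtain ⟨s, hs, rfl⟩ := mem_conj_iff_exists.1 ht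
    rw [cent1_conj, conj_mem_conj_iff] at e
    exact (h.inv s hs e).conj g
  ex := let ⟨e, he, h1, h2, h3⟩ := h.ex
    ⟨_, ⟨conj_mem_conj he.1, L.mul_mem (mul_mem hg he.2) (inv_mem hg)⟩, h1.conj g, h2.conj g, h3.conj g⟩

theorem sylT (h : Tri L x T w) : Syl 2 T ⊤ := h.small x T h.toCfg

theorem sylL (h : Tri L x T w) : Syl 2 (T ⊓ L) L := by
  simpa using syl_inf (sylT h) (h.syl.le.trans (h.toSm.CS_le h.xL h.odd h.ne)) le_top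

theorem le_CM (h : Tri L x T w) : T ≤ CM {w} := fun t ht => by
  by_cases e : t ∈ 𝐂[x]
  · exact cent_le_CM _ (h.wZ ⟨ht, e⟩)
  · exact mem_CM1.2 (h.nice.comm_of_iv (h.inv t ht e))

theorem w_rl (h : Tri L x T w) : Rl w :=
  let ⟨e, he, h1, _⟩ := h.ex; (h.inv e he.1 (h.toCfg.not_cent h1)).rl

theorem w_nc (h : Tri L x T w) : w ∉ 𝐂(L) := fun e1 =>
  let ⟨e, he, h1, _⟩ := h.ex
  h.w2 ((h.inv e he.1 (h.toCfg.not_cent h1)).sq_eq_one (le_cent1_iff.2 e1 he.2))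

/-- commutators with an element of `CM {y}` do not change under conjugation in `CM {y}` -/
theorem comm_conj {m a y : G} (hm : m ∈ CM {y}) (ha : a ∈ CM {y}) : ⁅m * a * m⁻¹, y⁆ = ⁅a, y⁆ := by
  rw [comm_mul_of_ZZ (mem_CM1.1 (inv_mem hm)), comm_mul_of_ZZ (mem_CM1.1 ha),
    ZZ_comm (mem_CM1.1 ha), mul_assoc, ← comm_mul_of_ZZ (mem_CM1.1 (inv_mem hm)), mul_inv_cancel,
    commutatorElement_one_left, mul_one]

/-- a conjugate in `T` which is different modulo the centre -/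
theorem exists_conj (q1 : Q1.{u}) (q3 : Q3.{u}) (h : Tri L x T w) (hu : u ∈ T ⊓ L) (h1 : u ∉ 𝐂(L))
    (h2 : u * u ∈ 𝐂(L)) (h3 : T ⊓ L ≤ CM {u}) :
    ∃ g ∈ L, g * u * g⁻¹ ∈ T ∧ u⁻¹ * (g * u * g⁻¹) ∉ 𝐂(L) := by
  obtain ⟨g, hg, k1, k2⟩ := q3 G L u h.comp.2 hu.2 h1 h2
  have k3 : g * u * g⁻¹ ∈ L := mul_mem (mul_mem hg hu.2) (inv_mem hg)
  have k4 : ⁅u, g * u * g⁻¹⁆ ∈ ZZ G := q1 G L _ h.hyp h.comp.2
    ⟨der_le L (commutator_mem_commutator hu.2 k3), k2⟩ (by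
      generalize g * u * g⁻¹ = y at k2 k3
      calc _ = u * ⁅u, y⁆ * u⁻¹ * ⁅u, y⁆ := by rw [mem_cent_iff_conj.1 (le_cent_symm (zpowers_le.2 k2) hu.2) _ (mem_zpowers _)]
        _ = u * u * y * (u * u)⁻¹ * y⁻¹ := by simp only [commutatorElement_def]; group
        _ = 1 := by rw [mem_cent_iff_conj.1 h2 y k3, mul_inv_cancel])
  obtain ⟨m, hm, k5⟩ := ((sylL h).mono (le_inf h3 inf_le_right) inf_le_right).exists_conj_le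
    (zpowers_le.2 (mem_inf.2 ⟨mem_CM1.2 (comm_ZZ_symm k4), k3⟩))
    ((two_of_mem h.toCfg.two hu.1).conj g).pgroup
  refine ⟨m * g, mul_mem hm.2 hg, ?_, fun e => k1 ?_⟩
  · rw [show m * g * u * (m * g)⁻¹ = m * (g * u * g⁻¹) * m⁻¹ by group]
    exact (k5 (conj_mem_conj (mem_zpowers _))).1
  · have k6 := conj_mem_of_norm' (norm_le_norm_cent L (le_norm_self L hm.2)) e
    have k7 := ZZ_le_cent L ((mem_ZZ_conj (g := u⁻¹)).2 (mem_CM1.1 (inv_mem hm.1)))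
    convert mul_mem k7 k6 using 1
    simp only [commutatorElement_def]; group

/-- pairs -/
structure Pr (L : Subgroup G) (x : G) (T : Subgroup G) (w v : G) : Prop extends Tri L x T w where
  vT : v ∈ T
  vx : v ∉ 𝐂[x]
  cj : ∃ g ∈ L, v = g * w * g⁻¹

theorem exists_pr (aa : AA.{u}) (q1 : Q1.{u}) (q3 : Q3.{u}) (h : Tri L x T w) :
    ∃ v, Pr L x T w v :=
  let ⟨g, hg, h1, h2⟩ := exists_conj q1 q3 h ⟨h.wT.1, h.wL⟩ (w_nc h) (ZZ_le_cent L h.nice)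
    (inf_le_left.trans (le_CM h))
  ⟨_, h, h1, fun e => h2 (aa G L T x w g h hg ⟨h1, e⟩), g, hg, rfl⟩

/-- the map `δ` -/
def dl (v b : G) : G := b⁻¹ * (v * b * v⁻¹)

theorem dl_eq_one : dl v b = 1 ↔ b ∈ 𝐂[v] := by
  rw [dl, inv_mul_eq_one, mem_cent1_comm, mem_cent1_iff_conj, eq_comm]

namespace Pr

variable (h : Pr L x T w v)
include h

theorem cfg : Cfg x T := h.toCfg

theorem vL : v ∈ L := let ⟨_, hg, e⟩ := h.cj; e ▸ mul_mem (mul_mem hg h.wL) (inv_mem hg)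

theorem sq : v * v = w * w := let ⟨g, _, e⟩ := h.cj; e ▸ h.nice.conj_sq g

theorem nv : Nice v := let ⟨g, _, e⟩ := h.cj; e ▸ h.nice.conj g

theorem rv : Rl v := let ⟨g, _, e⟩ := h.cj; e ▸ (w_rl h.toTri).conj g

theorem nz : v ∉ ZZ G := fun e => h.vx (ZZ_le_cent1 x e)

theorem ix : Iv v x := h.cfg.iv h.vT h.vx

theorem iw : Iv v w := h.inv v h.vT h.vx

theorem wv : w ∉ 𝐂[v] := fun e => h.w2 (h.iw.sq_eq_one (mem_cent1_comm.1 e))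

theorem dl_mem (hb : b ∈ T ⊓ 𝐂[x]) : dl v b ∈ T ⊓ 𝐂[x] :=
  mul_mem (inv_mem hb) (conj_mem_of_norm (h.cfg.norm0 h.vT) hb)

theorem dl_iv (b : G) : Iv v (dl v b) := by
  show _ = _
  calc _ = (v * b * v⁻¹)⁻¹ * (v * v * b * (v * v)⁻¹) := by rw [dl]; group
    _ = _ := by rw [← ZZ_comm h.nv b, mul_inv_cancel_right, dl]; group

theorem dl_cent (rr : RR.{u}) (hb : b ∈ T ⊓ 𝐂[x]) : T ⊓ 𝐂[x] ≤ 𝐂[dl v b] :=
  rr G x v _ T h.cfg (sylT h.toTri) h.vT h.ix h.nv h.rv (h.dl_mem hb) (h.dl_iv b)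

theorem dl_mul (rr : RR.{u}) (hb : b ∈ T ⊓ 𝐂[x]) (hc : c ∈ T ⊓ 𝐂[x]) :
    dl v (b * c) = dl v b * dl v c := by
  calc _ = c⁻¹ * dl v b * c⁻¹⁻¹ * dl v c := by simp only [dl]; group
    _ = _ := by rw [mem_cent1_iff_conj.1 (h.dl_cent rr hb (inv_mem hc))]

theorem dl_ZZ (rr : RR.{u}) (hb : b ∈ T ⊓ 𝐂[x]) (e : dl v b * dl v b = 1) : dl v b ∈ ZZ G :=
  h.cfg.mem_ZZ_of_le (rl_of_sq e) (h.cfg.le_of h.vT h.ix (h.dl_cent rr hb) ((h.dl_iv b).mem_cent e))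

theorem conj_cent (rr : RR.{u}) (hb : b ∈ T ⊓ 𝐂[x]) (hc : c ∈ T ⊓ 𝐂[x]) (e : c ∈ 𝐂[v]) :
    b * c * b⁻¹ ∈ 𝐂[v] := by
  rw [← dl_eq_one, h.dl_mul rr (mul_mem hb hc) (inv_mem hb), h.dl_mul rr hb hc, dl_eq_one.2 e,
    mul_one, ← h.dl_mul rr hb (inv_mem hb), mul_inv_cancel, dl_eq_one]
  exact one_mem _

/-- (a) -/
theorem mem_ZZ (hc : c ∈ T ⊓ 𝐂[x]) (e : c ∈ 𝐂[v]) (hg : g ∈ 𝐂[x]) (hi : Iv g c) : c ∈ ZZ G :=
  a1a G x c (g * v) v h.hyp h.odd h.ne (two_of_mem h.cfg.two0 hc) hc.2 (h.ix.cent_mul hg)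
    (hi.mul_cent (mem_cent1_comm.1 e)) h.ix (mem_cent1_comm.1 e)

theorem mem_ZZ' (hc : c ∈ T ⊓ 𝐂[x]) (e : c ∈ 𝐂[v]) (h2 : c * c ∈ 𝐂(L)) (hg : g ∈ L)
    (h3 : g * c * g⁻¹ ∈ T ⊓ 𝐂[x]) (h4 : g * c * g⁻¹ ∈ 𝐂[v]) : c⁻¹ * (g * c * g⁻¹) ∈ ZZ G :=
  h.mem_ZZ (mul_mem (inv_mem hc) h3) (mul_mem (inv_mem e) h4) hc.2 (sq_iv (by
    rw [show g * c * g⁻¹ * (g * c * g⁻¹) = g * (c * c) * g⁻¹ by group, mem_cent_iff.1 h2 g hg,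
      mul_inv_cancel_right]))

/-- (b) -/
theorem le_CMc (rr : RR.{u}) (hc : c ∈ T ⊓ 𝐂[x]) (e : c ∈ 𝐂[v]) (h2 : c * c ∈ 𝐂(L)) :
    T ⊓ L ≤ CM {c} := by
  have k : ∀ b ∈ T ⊓ 𝐂[x], b ∈ L → b ∈ CM {c} := fun b hb hL => by
    have := (mem_ZZ_conj (g := c)).2 (h.mem_ZZ' hc e h2 hL ((T ⊓ 𝐂[x]).mul_mem (mul_mem hb hc)
      (inv_mem hb)) (h.conj_cent rr hb hc e))
    rw [mem_CM1]
    convert this using 1
    simp only [commutatorElement_def]; group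
  intro t ht
  by_cases e1 : t ∈ 𝐂[x]
  · exact k t ⟨ht.1, e1⟩ ht.2
  · exact (mul_mem_cancel_right (cent_le_CM _ (mem_cent1_comm.1 e))).1 (k _ ⟨T.mul_mem ht.1 h.vT,
      (h.cfg.iv ht.1 e1).mul_mem h.ix⟩ (mul_mem ht.2 h.vL))

/-- (K2) -/
theorem k2 (rr : RR.{u}) (aa : AA.{u}) (hc : c ∈ T ⊓ 𝐂[x]) (hL : c ∈ L) (e : c ∈ 𝐂[v])
    (h2 : c * c ∈ 𝐂(L)) (hg : g ∈ L) (h3 : g * c * g⁻¹ ∈ T) : g * c * g⁻¹ ∈ 𝐂[x] := by
  by_contra h4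
  have h5 : Iv c (g⁻¹ * w * g⁻¹⁻¹) := by simpa [mul_assoc] using (h.inv _ h3 h4).conj g⁻¹
  have h6 : g⁻¹ * w * g⁻¹⁻¹ ∈ CM {c} := mem_CM1.2 (comm_ZZ_symm ((h.nice.conj _).comm_of_iv h5))
  obtain ⟨m, hm, h7⟩ := ((sylL h.toTri).mono (le_inf (h.le_CMc rr hc e h2) inf_le_right)
    inf_le_right).exists_conj_le (zpowers_le.2 (mem_inf.2 ⟨h6, L.mul_mem (mul_mem (inv_mem hg) h.wL)
      (inv_mem (inv_mem hg))⟩)) (h.nice.two.conj _).pgroup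
  have h8 := h7 (conj_mem_conj (mem_zpowers _))
  have h9 : m * (g⁻¹ * w * g⁻¹⁻¹) * m⁻¹ ∉ 𝐂[c] := fun e1 => by
    rw [mem_cent1, ← commutatorElement_eq_one_iff_mul_comm, comm_conj hm.1 h6,
      commutatorElement_eq_one_iff_mul_comm, ← mem_cent1, mem_cent1_comm] at e1
    exact h.w2 ((h.nice.conj_sq _).symm.trans (h5.sq_eq_one e1))
  rw [show m * (g⁻¹ * w * g⁻¹⁻¹) * m⁻¹ = m * g⁻¹ * w * (m * g⁻¹)⁻¹ by group] at h8 h9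
  have h10 : m * g⁻¹ ∈ L := mul_mem hm.2 (inv_mem hg)
  generalize m * g⁻¹ = n at h8 h9 h10
  by_cases e1 : n * w * n⁻¹ ∈ 𝐂[x]
  · exact h9 ((mul_mem_cancel_left (inv_mem (mem_cent1_comm.1 (h.wZ hc)))).1
      (cent_le_cent1 hL (aa G L T x w n h.toTri h10 ⟨h8.1, e1⟩)))
  · have h11 := rr G x v _ T h.cfg (sylT h.toTri) h.vT h.ix h.nv h.rv
      ⟨T.mul_mem (inv_mem h8.1) h.vT, (h.cfg.iv h8.1 e1).inv_left.mul_mem h.ix⟩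
      (sq_iv' ((h.nice.conj_sq n).trans h.sq.symm)) hc
    exact h9 (inv_mem_iff.1 ((mul_mem_cancel_right (mem_cent1_comm.1 e)).1 (mem_cent1_comm.1 h11)))

/-- the symmetric pair -/
theorem symm (h1 : X ≤ T ⊓ L) (h2 : X ≤ CM {v}) (h3 : w ∈ X) :
    ∃ x' T' w', Pr L x' T' w' w ∧ X ≤ T' ∧ 𝐂[w'] = 𝐂[v] := by
  obtain ⟨g, hg, e⟩ := h.cj
  have k1 := tri_conj h.toTri hg
  rw [← e] at k1
  obtain ⟨m, hm, k2⟩ := ((sylL k1).mono (le_inf (inf_le_left.trans (le_CM k1)) inf_le_right)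
    inf_le_right).exists_le_conj' (le_inf h2 (h1.trans inf_le_right))
    (h.cfg.two.to_le (h1.trans inf_le_left))
  have k3 := tri_conj k1 hm.2
  have k4 : 𝐂[m * v * m⁻¹] = 𝐂[v] := by
    rw [conj_eq_comm_mul, ← ZZ_comm (mem_CM1.1 hm.1), cent1_mul_ZZ (mem_CM1.1 hm.1)]
  have k5 := k2.trans (conj_mono m inf_le_left)
  exact ⟨_, _, _, ⟨k3, k5 h3, fun e1 => h.wv (k4 ▸ k3.wZ ⟨k5 h3, e1⟩), (m * g)⁻¹,
    inv_mem (mul_mem hm.2 hg), by rw [e]; group⟩, k5, k4⟩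

/-- (K3) -/
theorem k3 (rr : RR.{u}) (aa : AA.{u}) (q1 : Q1.{u}) (q3 : Q3.{u}) (hc : c ∈ T ⊓ 𝐂[x]) (hL : c ∈ L)
    (e : c ∈ 𝐂[v]) : c ∈ 𝐂(L) := by
  by_contra h0
  obtain ⟨n, h1, h2⟩ := (two_of_mem h.cfg.two0 hc).exists_pow h0
  replace hc := pow_mem hc n
  replace hL := pow_mem hL n
  replace e := pow_mem e n
  generalize c ^ n = d at h1 h2 hc hL e
  obtain ⟨g, hg, h3, h4⟩ := exists_conj q1 q3 h.toTri ⟨hc.1, hL⟩ h1 h2 (h.le_CMc rr hc e h2)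
  have h5 : g * d * g⁻¹ ∈ T ⊓ 𝐂[x] := ⟨h3, h.k2 rr aa hc hL e h2 hg h3⟩
  have h6 : dl v (g * d * g⁻¹) ∈ ZZ G := h.dl_ZZ rr h5 (by
    rw [← h.dl_mul rr h5 h5, dl_eq_one, show g * d * g⁻¹ * (g * d * g⁻¹) = g * (d * d) * g⁻¹ by group,
      mem_cent_iff.1 h2 g hg, mul_inv_cancel_right]
    exact cent_le_cent1 h.vL h2)
  obtain ⟨x', T', w', k, k1, k2⟩ := h.symm (X := T ⊓ L ⊓ CM {v}) inf_le_left inf_le_right
    ⟨⟨h.wT.1, h.wL⟩, mem_CM1.2 (comm_ZZ_symm (h.nice.comm_of_iv h.iw))⟩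
  have k3 : d ∈ T' := k1 ⟨⟨hc.1, hL⟩, cent_le_CM _ e⟩
  have k4 : g * d * g⁻¹ ∈ T' := k1 ⟨⟨h3, L.mul_mem (mul_mem hg hL) (inv_mem hg)⟩,
    (CM {v}).inv_mem_iff.1 (mem_CM1.2 (by
      convert h6 using 1
      simp only [commutatorElement_def, dl]; group))⟩
  have k5 : d ∈ 𝐂[x'] := by_contra fun e1 => k.w2 ((k.inv d k3 e1).sq_eq_one (k2 ▸ e))
  have k6 := k.wZ ⟨k4, k.k2 rr aa ⟨k3, k5⟩ hL (h.wZ hc) h2 hg k4⟩
  exact h4 (ZZ_le_cent L (h.mem_ZZ' hc e h2 hg h5 (k2 ▸ k6)))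

theorem exists_gen (rr : RR.{u}) : ∃ a ∈ T ⊓ 𝐂[x] ⊓ L, ∀ b ∈ T ⊓ 𝐂[x] ⊓ L, ∃ n : ℤ,
    (a ^ n)⁻¹ * b ∈ 𝐂[v] := by
  have := Fact.mk Nat.prime_two
  let φ : ↥(T ⊓ 𝐂[x] ⊓ L) →* G := MonoidHom.mk' (fun b => dl v b) fun b c => h.dl_mul rr b.2.1 c.2.1
  have h1 : φ.range ≤ T ⊓ 𝐂[x] := by rintro _ ⟨b, rfl⟩; exact h.dl_mem b.2.1
  have h2 : IsCyclic φ.range := by
    refine (isCyclic_iff_rp_of_ab (h.cfg.two0.to_le h1) (ab_iff.2 ?_)).2 (rp_le_iff.2 fun A hA e => ?_)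
    · rintro a ha _ ⟨b, rfl⟩
      exact mem_cent1.1 (h.dl_cent rr b.2.1 (h1 ha))
    have h3 : A ≤ zpowers (w * w) := fun a ha => by
      obtain ⟨b, rfl⟩ := hA ha
      by_cases e1 : (b : G) ∈ 𝐂[v]
      · exact (show φ b = 1 from dl_eq_one.2 e1) ▸ one_mem _
      have h4 : ⁅(b : G)⁻¹, v⁆ = φ b := by
        simp only [commutatorElement_def, dl, φ, MonoidHom.mk'_apply]; group
      have h5 : ⁅w, v⁆ = w * w := by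
        rw [← commutatorElement_inv, commutatorElement_def, h.iw]; simp
      rw [← h4, m2 G x v _ w T h.cfg (sylT h.toTri) h.rv h.nz
        (h4 ▸ h.dl_ZZ rr b.2.1 ((pow_two _).symm.trans (e.2 _ ha))) (h5 ▸ h.nice)
        (by rwa [inv_mem_iff]) h.wv, h5]
      exact mem_zpowers _
    refine (card_le h3).trans ?_
    rw [Nat.card_zpowers]
    exact Nat.le_of_dvd two_pos (orderOf_dvd_of_pow_eq_one ((pow_two _).trans h.nice.2))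
  obtain ⟨y, hy⟩ := exists_zpowers_eq h2
  obtain ⟨a, rfl⟩ := hy.le (mem_zpowers y)
  refine ⟨a, a.2, fun b hb => ?_⟩
  obtain ⟨n, hn⟩ := hy.ge ⟨⟨b, hb⟩, rfl⟩
  refine ⟨n, dl_eq_one.1 ?_⟩
  show φ ((a ^ n)⁻¹ * ⟨b, hb⟩) = 1
  rw [map_mul, map_inv, map_zpow, ← hn, inv_mul_cancel]

end Pr

end Kd

open Kd in
theorem kd (rr : RR.{u}) (aa : AA.{u}) (q1 : Q1.{u}) (q3 : Q3.{u}) : KD.{u} := by
  intro G _ _ L T x w h0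
  have := Fact.mk Nat.prime_two
  obtain ⟨v, h⟩ := exists_pr aa q1 q3 h0
  obtain ⟨a, ha, h1⟩ := h.exists_gen rr
  have h2 : Syl 2 ((T ⊓ L).subgroupOf L) ⊤ :=
    ⟨le_top, (sylL h0).isPGroup.comap_subtype, by rw [relIndex_top_right]; exact (sylL h0).not_dvd⟩
  have h3 := h2.map (QuotientGroup.mk' (center L))
  rw [map_top_of_surjective _ (QuotientGroup.mk'_surjective _)] at h3
  have h4 : ∀ b : L, (b : G) ∈ T ⊓ 𝐂[x] → (b : G) ∈ 𝐂[v] → b ∈ center L := fun b hb e =>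
    mem_center_iff.2 fun y => Subtype.ext (mem_cent_iff.1 (h.k3 rr aa q1 q3 hb b.2 e) y y.2)
  have h5 : ∀ b : L, (b : G) ∈ T ⊓ 𝐂[x] → QuotientGroup.mk' (center L) b ∈
      zpowers (QuotientGroup.mk' (center L) ⟨a, ha.2⟩) := fun b hb => by
    obtain ⟨n, hn⟩ := h1 b ⟨hb, b.2⟩
    exact ⟨n, (map_zpow _ _ _).symm.trans (QuotientGroup.eq.2
      (h4 _ ((T ⊓ 𝐂[x]).mul_mem (inv_mem ((T ⊓ 𝐂[x]).zpow_mem ha.1 n)) hb) hn))⟩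
  refine CS2.dh_of_syl h3 (a := QuotientGroup.mk' (center L) ⟨a, ha.2⟩) ?_ ?_
  · rintro _ ⟨t, ht, rfl⟩ e
    have k1 : (t : G) ∉ 𝐂[x] := fun e1 => e (h5 t ⟨ht.1, e1⟩)
    have k2 : (t : G) * v⁻¹ ∈ T ⊓ 𝐂[x] :=
      ⟨T.mul_mem ht.1 (inv_mem h.vT), (h.cfg.iv ht.1 k1).mul_mem h.ix.inv_left⟩
    have k3 := conj_mem_of_norm (h.cfg.norm0 h.vT) k2
    rw [← map_mul]
    refine (QuotientGroup.eq_one_iff _).2 (h4 _ ⟨T.mul_mem ht.1 ht.1,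
      (h.cfg.iv ht.1 k1).mul_mem (h.cfg.iv ht.1 k1)⟩ ?_)
    rw [coe_mul, show (t : G) * t = t * v⁻¹ * (v * (t * v⁻¹) * v⁻¹) * (v * v) by group,
      mul_mem_cancel_right (ZZ_le_cent1 v h.nv), ← dl_eq_one, h.dl_mul rr k2 k3,
      show dl v (v * (t * v⁻¹) * v⁻¹) = v * dl v (t * v⁻¹) * v⁻¹ by simp [dl, mul_assoc],
      h.dl_iv, mul_inv_cancel]
  · rintro _ ⟨s, hs, rfl⟩ _ ⟨t, ht, rfl⟩ e e'
    rw [← map_mul]
    exact h5 _ ⟨T.mul_mem hs.1 ht.1, (h.cfg.iv hs.1 fun e1 => e (h5 s ⟨hs.1, e1⟩)).mul_mem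
      (h.cfg.iv ht.1 fun e1 => e' (h5 t ⟨ht.1, e1⟩))⟩

end Cfsg.Agent.RC
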