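import Cfsg.Agent.Lib.RC.P2
import Cfsg.Agent.Lib.GW2.Gwd

/-!
# Plan RC, package P8
-/

set_option autoImplicit false
set_option linter.unusedSectionVars false

namespace Cfsg.Agent.RC

open Subgroup Cfsg.Agent.OO Cfsg.Agent.Coprime GW GW2
open scoped commutatorElement Pointwise MatrixGroups

universe u

namespace Ph

variable {F : Type} [Field F]

theorem of_sl {G : Type u} [Group G] [Finite G] (e : G ≃* PSL(2, F)) {x d : SL(2, F)}
    (hz : x ∉ center SL(2, F)) (ht : 2 * x.1.trace ≠ 0) (hd : d * x = x⁻¹ * d)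
    (hy : ∀ y ∈ 𝐂[x], y.1.trace ≠ 0) : ∃ x : G, x ≠ 1 ∧ Odd ♯𝐂[x] ∧ Rl x := by
  refine ⟨e.symm x, fun h => hz ((QuotientGroup.eq_one_iff x).1 (by simpa using h)), ?_, e.symm d, ?_⟩
  · refine odd_of_forall fun a ha a2 => e.injective ?_
    have h1 : e a ∈ 𝐂[(x : PSL(2, F))] := mem_cent1.2 (by simpa using congrArg e (mem_cent1.1 ha))
    rw [CIT.cent_eq_map (.inl ht)] at h1
    obtain ⟨y, h2, e1⟩ := h1
    rw [map_one, ← e1]
    refine (QuotientGroup.eq_one_iff y).2 (CIT.mem_center_of_sq (hy y h2)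
      ((QuotientGroup.eq_one_iff _).1 ?_))
    rw [QuotientGroup.mk_mul, show (y : PSL(2, F)) = e a from e1, ← map_mul, a2, map_one]
  · show _ = _
    rw [← map_mul, ← QuotientGroup.mk_mul, hd, QuotientGroup.mk_mul, map_mul, mul_inv_cancel_right,
      QuotientGroup.mk_inv, map_inv]

theorem psl {G : Type u} [Group G] [Finite G] [Fintype F] (h5 : 5 ≤ Fintype.card F)
    (ho : Odd (Fintype.card F)) (e : G ≃* PSL(2, F)) : ∃ x : G, x ≠ 1 ∧ Odd ♯𝐂[x] ∧ Rl x := by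
  classical
  obtain ⟨p, hp⟩ := CharP.exists F
  obtain ⟨n, pp, hq⟩ := FiniteField.card F p
  have h2 : (2 : F) ≠ 0 := fun e => by
    obtain rfl := (Nat.prime_dvd_prime_iff_eq pp Nat.prime_two).1
      ((CharP.cast_eq_zero_iff F p 2).1 (by exact_mod_cast e))
    exact ho.not_two_dvd_nat (hq ▸ dvd_pow_self 2 n.ne_zero)
  by_cases hi : ∃ i : F, i * i = -1
  · obtain ⟨i, hi⟩ := hi
    obtain ⟨x, hx⟩ : ∃ x : SL(2, F), x.1 = !![1, 1; 0, 1] := ⟨⟨_, by simp⟩, rfl⟩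
    obtain ⟨d, hd⟩ : ∃ d : SL(2, F), d.1 = !![i, 0; 0, -i] := ⟨⟨_, by simp [hi]⟩, rfl⟩
    have ht : x.1.trace = 2 := by rw [hx, Matrix.trace_fin_two_of]; norm_num
    have hz : x ∉ center SL(2, F) := fun h => by
      obtain ⟨z, h7⟩ := Lin.SL2.mem_center_iff_scalar.1 h
      simpa [hx] using congrFun (congrFun h7 0) 1
    refine of_sl e (d := d) hz (by rw [ht]; exact mul_ne_zero h2 h2) ?_ fun y hy e2 => ?_
    · rw [eq_inv_mul_iff_mul_eq]
      refine Subtype.ext ?_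
      rw [CIT.val_mul, CIT.val_mul, hx, hd]
      simp
    · have h3 := CIT.trace_sq_of_cent hz (by rw [ht]; norm_num) hy
      rw [e2] at h3
      exact mul_ne_zero h2 h2 (by linear_combination -h3)
  push Not at hi
  obtain ⟨a, -, ha⟩ := Finset.exists_mem_notMem_of_card_lt_card (s := ({0, 1, -1} : Finset F))
    (t := Finset.univ) (Finset.card_le_three.trans_lt (by rw [Finset.card_univ]; omega))
  simp only [Finset.mem_insert, Finset.mem_singleton, not_or] at ha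
  obtain ⟨a0, a1, a2⟩ := ha
  have h3 : a ≠ a⁻¹ := fun h => by
    have : (a - 1) * (a + 1) = 0 := by
      have := mul_inv_cancel₀ a0
      rw [← h] at this
      linear_combination this
    rcases mul_eq_zero.1 this with h4 | h4
    · exact a1 (sub_eq_zero.1 h4)
    · exact a2 (eq_neg_of_add_eq_zero_left h4)
  obtain ⟨x, hx⟩ : ∃ x : SL(2, F), x.1 = !![a, 0; 0, a⁻¹] := ⟨⟨_, by simp [a0]⟩, rfl⟩
  obtain ⟨d, hd⟩ : ∃ d : SL(2, F), d.1 = !![0, 1; -1, 0] := ⟨⟨_, by simp⟩, rfl⟩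
  have hz : x ∉ center SL(2, F) := fun h => by
    obtain ⟨z, h7⟩ := Lin.SL2.mem_center_iff_scalar.1 h
    have h8 : z = a := by simpa [hx] using congrFun (congrFun h7 0) 0
    have h9 : z = a⁻¹ := by simpa [hx] using congrFun (congrFun h7 1) 1
    exact h3 (h8.symm.trans h9)
  refine of_sl e (d := d) hz (mul_ne_zero h2 fun h => hi a ?_) ?_ fun y hy e2 => ?_
  · rw [hx, Matrix.trace_fin_two_of] at h
    have := mul_inv_cancel₀ a0
    linear_combination a * h - this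
  · rw [eq_inv_mul_iff_mul_eq]
    refine Subtype.ext ?_
    rw [CIT.val_mul, CIT.val_mul, hx, hd]
    simp [a0]
  · obtain ⟨k, l, h4, -⟩ := CIT.exists_coef hz hy
    have h6 := y.2
    rw [h4, hx] at h6 e2
    simp [Matrix.det_fin_two, Matrix.trace_fin_two] at h6 e2
    exact hi (k + l * a) (by linear_combination (k + l * a) * e2 - h6)

end Ph

theorem dr : DR.{u} := by
  classical
  intro G _ _ hs hn hD
  rcases gwd G ⊤ hD smp_top (fun e => hn ⟨⟨fun a b => ab_iff.1 e a trivial b trivial⟩⟩) with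
    ⟨F, _, _, h5, ho, ⟨e⟩⟩ | e
  · exact Ph.psl h5 ho (topEquiv.symm.trans e)
  have : Fact (Nat.Prime 5) := ⟨by norm_num⟩
  obtain ⟨x, -, hx⟩ := cauchy (p := 5) (H := (⊤ : Subgroup G)) (by norm_num) (by rw [e.card]; norm_num)
  have h1 : x ≠ 1 := fun h => by rw [h, orderOf_one] at hx; omega
  refine ⟨x, h1, odd_of_forall fun a ha a2 => by_contra fun a1 => ?_, ?_⟩
  · have := orderOf_dvd_card (mem_cent1_comm.1 ha)
    rw [hx, ← top_inf_eq 𝐂[a], (e.loc a trivial a1 a2).1] at this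
    omega
  have h2 : ♯(zpowers x) = 5 := by rw [Nat.card_zpowers, hx]
  have h3 : Syl 5 (zpowers x) ⊤ := ⟨le_top, isPGroup_of_card_prime_pow (n := 1) h2, by
    have := card_mul_relIndex (le_top (a := zpowers x))
    rw [h2, e.card] at this
    omega⟩
  obtain ⟨g, hg, h4⟩ : ∃ g ∈ 𝐍(zpowers x), g ∉ 𝐂(zpowers x) := by
    by_contra! h4
    have h5 := Burnside_normal_complement h3 (inf_le_right.trans h4)
    rcases e.smp _ (Opi_normal ({5} : Set ℕ)ᶜ ⊤) with h6 | h6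
    · rw [h5.right_eq_iff.2 h6, e.card] at h2
      omega
    · exact h1 (zpowers_eq_bot.1 (h5.left_eq_iff.1 h6))
  rw [cent_zpowers, mem_cent1_iff_conj] at h4
  obtain ⟨n, hn1, h5⟩ := Finset.mem_image.1
    (mem_zpowers_iff_mem_range_orderOf.1 (conj_mem_of_norm hg (mem_zpowers x)))
  rw [hx, Finset.mem_range] at hn1
  have h6 : x ^ 5 = 1 := hx ▸ pow_orderOf_eq_one x
  have h7 : g * g * x * (g * g)⁻¹ = x ^ (n * n) := by
    rw [pow_mul, h5, conj_pow, h5]; group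
  have h8 : ∀ k : ℕ, x ^ (5 * k + 4) = x⁻¹ := fun k => by
    rw [eq_inv_iff_mul_eq_one, ← pow_succ, show 5 * k + 4 + 1 = 5 * (k + 1) by ring, pow_mul, h6, one_pow]
  interval_cases n
  · exact absurd (by simpa using h5.symm) h1
  · exact absurd (by simpa using h5.symm) h4
  · exact ⟨g * g, h7.trans (h8 0)⟩
  · exact ⟨g * g, h7.trans (h8 1)⟩
  · exact ⟨g, h5.symm.trans (h8 0)⟩

theorem en : EN.{u} := by
  intro G _ _ L s hD
  have hq := s.comp.2
  obtain ⟨y, h1, h2, d, h3⟩ := dr _ hq.2 (Core.not_isMulCommutative_of_isQuasisimple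
    (have := hq.2; Core.isQuasisimple_of_surjective hq (QuotientGroup.mk'_surjective (center L)))) hD
  obtain ⟨y0, rfl⟩ := QuotientGroup.mk_surjective y
  obtain ⟨d, rfl⟩ := QuotientGroup.mk_surjective d
  have h4 : ((constt ({2} : Set ℕ)ᶜ y0 : L) : L ⧸ center L) = y0 :=
    (map_constt (QuotientGroup.mk' (center L)) _ y0).trans (constt_eq_self
      ((isPiNum_compl_singleton Nat.prime_two).2 (odd_of_mem h2 (mem_cent1_self _)).not_two_dvd_nat))
  have h5 := Pf.odd_constt y0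
  rw [← h4] at h1 h2 h3
  generalize constt ({2} : Set ℕ)ᶜ y0 = x at h1 h2 h3 h5
  have ho : Odd (orderOf (x : G)) := by rwa [orderOf_coe]
  have hne : (x : G) ≠ 1 := fun h => h1 (by rw [show x = 1 from Subtype.ext h]; rfl)
  have h6 : (x : G) * (d * x * (d : G)⁻¹) ∈ 𝐂(L) := Pq.mem_center'.1 (show x * (d * x * d⁻¹) ∈ center L by
    rw [← QuotientGroup.eq_one_iff, QuotientGroup.mk_mul, QuotientGroup.mk_mul, QuotientGroup.mk_mul,
      QuotientGroup.mk_inv, h3, mul_inv_cancel])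
  have h7 : Iv (d : G) x := by
    have h8 : Commute (x : G) (d * x * (d : G)⁻¹) := by
      have := mem_cent_iff.1 h6 x x.2
      rw [mul_assoc (x : G), mul_right_inj] at this
      exact this
    exact eq_inv_of_mul_eq_one_right ((two_of_mem s.two (mem_inf.2 ⟨(x * (d * x * d⁻¹)).2, h6⟩)).eq_one
      ((ho.mul (by rwa [OO.orderOf_conj])).of_dvd_nat h8.orderOf_mul_dvd_mul_orderOf))
  obtain ⟨T, h, -⟩ := s.hyp.cfg ho hne h7.rl bot_le IsPGroup.of_bot
  have h8 : ∀ t ∈ T, t ∈ L → t ∈ 𝐂[(x : G)] → t ∈ 𝐂(L) := fun t ht hL hc => by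
    refine (Pq.mem_center' (a := ⟨t, hL⟩)).1 ((QuotientGroup.eq_one_iff _).1 (Two.eq_one ?_ (odd_of_mem h2 ?_)))
    · obtain ⟨k, hk⟩ := two_of_mem h.two ht
      refine Exists.intro k ?_
      rw [← QuotientGroup.mk_pow, show (⟨t, hL⟩ : L) ^ 2 ^ k = 1 from Subtype.ext hk]; rfl
    · rw [mem_cent1, ← QuotientGroup.mk_mul, ← QuotientGroup.mk_mul,
        show (⟨t, hL⟩ : L) * x = x * ⟨t, hL⟩ from Subtype.ext (mem_cent1.1 hc)]
  obtain ⟨-, -, e, he, f, hf, -, -, -, ge, gf, -, hef, c1, c2, c3⟩ := q4 G L s.hyp hq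
  have hS := syl_inf (s.small x T h) (h.syl.le.trans (s.CS_le x.2 ho hne)) le_top
  have h9 : IsPGroup 2 ↥(zpowers e ⊔ (zpowers f ⊔ ZZ G)) := isPGroup_sup ge.nice.two.pgroup
    (isPGroup_sup gf.nice.two.pgroup ZZ_two (Or.inl (le_norm_ZZ _))) (Or.inl (zpowers_le_of_mem
      (CM_le_norm le_sup_right (le_CM1_iff.1 (sup_le (zpowers_le_of_mem (mem_CM1.2 (comm_ZZ_symm hef)))
        (ZZ_le_CM _))))))
  obtain ⟨g, hg, h10⟩ := hS.exists_conj_le (Q := (zpowers e ⊔ (zpowers f ⊔ ZZ G)) ⊓ L)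
    (inf_le_inf_right L le_top) (h9.to_le inf_le_left)
  have h11 : ∀ {a : G}, a ∈ T ⊓ L → g⁻¹ * a * g ∉ 𝐂(L) → a ∉ 𝐂[(x : G)] := fun ha hc h12 =>
    hc (conj_mem_of_norm' (norm_le_norm_cent L (le_norm_self L hg.2)) (h8 _ ha.1 ha.2 h12))
  have he' := h10 (conj_mem_conj (x := e) ⟨mem_sup_left (mem_zpowers e), he⟩)
  have hf' := h10 (conj_mem_conj (x := f) ⟨mem_sup_right (mem_sup_left (mem_zpowers f)), hf⟩)
  exact h11 (mul_mem he' hf') (by simpa [mul_assoc] using c3)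
    ((h.iv he'.1 (h11 he' (by simpa [mul_assoc] using c1))).mul_mem
      (h.iv hf'.1 (h11 hf' (by simpa [mul_assoc] using c2))))

end Cfsg.Agent.RC
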