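import Cfsg.Agent.Lib.RC.P1
import Cfsg.Agent.Lib.RC.P2
import Cfsg.Agent.Lib.RC.P3
import Cfsg.Agent.Lib.RC.P4
import Cfsg.Agent.Lib.RC.P5
import Cfsg.Agent.Lib.RC.P6
import Cfsg.Agent.Lib.RC.P7
import Cfsg.Agent.Lib.RC.P8

/-!
# Plan RC: assembly
-/

set_option autoImplicit false

namespace Cfsg.Agent.RC

open Subgroup

universe u

theorem main_of (nr : NR.{u}) (bs : BS.{u}) (fs : FS.{u}) (g4 : G4.{u})
    {G : Type u} [Group G] [Finite G] (a : ℕ)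
    (h : ∀ x : G, IsConj x x⁻¹ → x ∉ center G → ((centralizer ({x} : Set G)).index).factorization 2 = a) :
    ∃ N K : Subgroup G, N.Normal ∧ K.Normal ∧ N ≤ K ∧ Odd (Nat.card N) ∧ Odd K.index ∧
      ∃ j : ℕ, N.relIndex K = 2 ^ j :=
  have h1 := ui fs g4 q4
  have h2 := be1 (al h1)
  have h3 := gp h2 (be3 h1 (al h1) h2) bs nr
  fin nr (main2 (n0 h2) h3 (t3 bs h3) h1 q4 (comp (n0 h2) fs g4 q4)) (tri q1 q3 q4)
    (kd rr (aa nr) q1 q3) en a h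

end Cfsg.Agent.RC
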