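import Cfsg.Agent.Lib.RC.Basic

/-!
# Plan RC, package P0a
-/

set_option autoImplicit false
set_option linter.unusedSectionVars false

namespace Cfsg.Agent.RC

open Subgroup Cfsg.Agent.OO Cfsg.Agent.Coprime GW GW2
open scoped commutatorElement Pointwise

universe u

namespace Pa

variable {G : Type u} [Group G] [Finite G] {x w ε e g : G} {T : Subgroup G}

theorem mem_left (ho : Odd (orderOf x)) (hw : Two w) (hc : w ∈ 𝐂[x]) : x ∈ zpowers (w * x) := by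
  obtain ⟨k, hk⟩ := hw
  have hc' : Commute w x := mem_cent1.1 hc
  have h1 : x ^ 2 ^ k ∈ zpowers (w * x) := by
    have : (w * x) ^ 2 ^ k = x ^ 2 ^ k := by rw [hc'.mul_pow, hk, one_mul]
    rw [← this]; exact pow_mem (mem_zpowers _) _
  clear hk
  induction k with
  | zero => simpa using h1
  | succ k ih =>
    refine ih (mem_of_sq_mem (ho.of_dvd_nat (orderOf_pow_dvd _)) ?_)
    rwa [← sq, ← pow_mul, ← pow_succ]

theorem mem_right (ho : Odd (orderOf x)) (hw : Two w) (hc : w ∈ 𝐂[x]) : w ∈ zpowers (w * x) := by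
  simpa using mul_mem (mem_zpowers (w * x)) (inv_mem (mem_left ho hw hc))

theorem nz (ho : Odd (orderOf x)) (h1 : x ≠ 1) (hw : Two w) (hc : w ∈ 𝐂[x]) : w * x ∉ ZZ G :=
  fun h => not_mem_ZZ ho h1 (zpowers_le_of_mem h (mem_left ho hw hc))

theorem cent_eq (ho : Odd (orderOf x)) (hw : Two w) (hc : w ∈ 𝐂[x]) :
    𝐂[w * x] = 𝐂[w] ⊓ 𝐂[x] :=
  le_antisymm (le_inf (cent1_le_of_mem_zpowers (mem_right ho hw hc))
    (cent1_le_of_mem_zpowers (mem_left ho hw hc))) fun _ hg =>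
    mem_cent1_comm.1 (mul_mem (mem_cent1_comm.1 hg.1) (mem_cent1_comm.1 hg.2))

end Pa

theorem mul_mem_of_card {G : Type u} [Group G] [Finite G] {A B : Subgroup G} {a b : G}
    (h : ♯A ≤ 2 * ♯(A ⊓ B)) (ha : a ∈ A) (hb : b ∈ A) (h1 : a ∉ B) (h2 : b ∉ B) : a * b ∈ B := by
  have h3 := card_inf_mul_relIndex B A
  rw [inf_comm] at h3
  have h4 : B.relIndex A ≠ 1 := fun h5 => h1 (relIndex_eq_one.1 h5 ha)
  have h5 := relIndex_pos B A
  have h6 := card_pos' (A ⊓ B)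
  have h7 : B.relIndex A = 2 := by
    by_contra h8
    have : 3 ≤ B.relIndex A := by omega
    nlinarith
  have := (mul_mem_iff_of_index_two h7 (a := ⟨a, ha⟩) (b := ⟨b, hb⟩)).2 (iff_of_false h1 h2)
  exact this

open Pa

theorem a1a : A1A.{u} := by
  intro G _ _ x w ε e h ho h1 hw hc hx hε he hew
  by_contra hz
  have hy : Iv ε (w * x) := hε.mul_of_comm hx (mem_cent1.1 hc)
  obtain ⟨P, hP⟩ := exists_syl 2 𝐂[w * x]
  have hle : 𝐂[w * x] ≤ 𝐂[w] ⊓ CS x := by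
    rw [cent_eq ho hw hc]; exact inf_le_inf_left _ (cent_le_CS x)
  obtain ⟨R, hR, hPR⟩ := exists_syl_ge (hP.le.trans hle) hP.isPGroup
  have h2 := h _ w hy.rl (nz ho h1 hw hc) hε.rl hz P R hP hR.isPGroup (hR.le.trans inf_le_left)
  have h3 : P = R := eq_of_le_of_card_le hPR h2
  have h4 : 𝐂[w * x].relIndex (𝐂[w] ⊓ CS x) = 2 := by
    refine (index_eq_two_iff).2 ⟨⟨e, hew, he.mem_CS⟩, fun b => ?_⟩
    simp only [mem_subgroupOf, coe_mul, cent_eq ho hw hc]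
    have h5 : e ∉ 𝐂[x] := fun h6 => h1 (odd_sq_eq_one ho (he.sq_eq_one h6))
    by_cases hb : (b : G) ∈ 𝐂[x]
    · exact Or.inr ⟨⟨b.2.1, hb⟩, fun h3 => h5 ((mul_mem_cancel_left hb).1 h3.2)⟩
    · exact Or.inl ⟨⟨mul_mem b.2.1 hew, (iv_of_mem b.2.2 hb).mul_mem he⟩, fun h6 => hb h6.2⟩
  exact hR.not_dvd (h4 ▸ relIndex_dvd_of_le_left _ (h3 ▸ hP.le))

theorem a1b : A1B.{u} := by
  intro G _ _ x w ε T h hw hc hx hε _
  have hy : Iv ε (w * x) := hε.mul_of_comm hx (mem_cent1.1 hc)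
  have hl := mem_left h.odd hw hc
  have hr := mem_right h.odd hw hc
  obtain ⟨R, hR⟩ := exists_syl 2 (CS (w * x))
  have h2 : w * x * (w * x) ≠ 1 := fun h3 => h.sq_ne (by
    obtain ⟨n, hn⟩ := hl
    rw [← hn, ← zpow_add, ← two_mul, zpow_mul, zpow_two, h3, one_zpow])
  have h3 := syl_card_CS hR hy.rl h2
  rw [h.card_syl hy.rl (nz h.odd h.ne hw hc) (syl_CS0 hR), ← h.card] at h3
  have hwR : w ∈ R := hR.le_of_norm (zpowers_le_of_mem (cent_le_CS _ (mem_cent1_comm.1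
    (cent1_le_of_mem_zpowers hr (mem_cent1_self _))))) hw.pgroup (Or.inl fun g hg => by
      rw [← conj_eq_self_iff, conj_zpowers]
      rcases CS_le_of_mem_zpowers hr (hR.le hg) with h4 | h4
      · rw [h4]
      · rw [h4, zpowers_inv]) (mem_zpowers w)
  obtain ⟨g, hg, h4⟩ := syl_conj_CS h.syl (hR.le.trans (CS_le_of_mem_zpowers hl)) hR.isPGroup
  have h5 : g •ᶜ R = T := eq_of_le_of_card_le h4 (by rw [card_conj, h3])
  have h6 : ∀ t ∈ T, g⁻¹ * t * g⁻¹⁻¹ ∈ R := fun t ht => by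
    rw [← h5, mem_conj] at ht; rwa [inv_inv]
  refine ⟨g, hg, ⟨h4 (conj_mem_conj hwR), (𝐂[x]).mul_mem (mul_mem hg hc) (inv_mem hg)⟩, fun t ht => ?_,
    fun t ht h7 => ?_⟩
  · rw [cent1_conj, mem_conj]
    rcases mem_CS'.1 (hR.le (h6 t ht.1)) with h7 | h7
    · simpa using cent1_le_of_mem_zpowers hr h7
    · exact absurd (mul_mem (mul_mem (inv_mem hg) ht.2) (inv_mem (inv_mem hg)))
        (h.not_cent (h7.of_mem_zpowers hl))
  · rcases mem_CS'.1 (hR.le (h6 t ht)) with h8 | h8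
    · have h9 := cent1_le_of_mem_zpowers hl h8
      rw [mul_mem_cancel_right (inv_mem (inv_mem hg)), mul_mem_cancel_left (inv_mem hg)] at h9
      exact absurd h9 h7
    · simpa [mul_assoc] using (h8.of_mem_zpowers hr).conj g

theorem bb : BB.{u} := by
  intro G _ _ x T W h hW hx hT
  refine zpowers_le.1 (thompson_AxB (p := 2) h.two0 ?_ ?_ hW hT (zpowers_le_of_mem hx) ?_)
  · rw [Nat.card_zpowers]; exact Nat.coprime_two_right.2 h.odd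
  · show _ ≤ 𝐂(zpowers x)
    rw [cent_zpowers]; exact inf_le_right
  show _ ≤ 𝐂(zpowers x)
  rw [cent_zpowers]
  intro w0 hw0
  by_contra hn
  obtain ⟨n, h1, h2⟩ := (two_of_mem hW hw0.1).exists_pow hn
  set w := w0 ^ n
  have hw : w ∈ W ⊓ 𝐂(T ⊓ 𝐂[x]) := pow_mem hw0 n
  have hxT : x ∈ 𝐂(T ⊓ 𝐂[x]) := le_cent1_iff.1 inf_le_right
  have hu : w⁻¹ * (x * w * x⁻¹) ∈ W ⊓ 𝐂(T ⊓ 𝐂[x]) :=
    mul_mem (inv_mem hw) ⟨conj_mem_of_norm hx hw.1, (𝐂(T ⊓ 𝐂[x])).mul_mem (mul_mem hxT hw.2) (inv_mem hxT)⟩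
  have hi : Iv w (w⁻¹ * (x * w * x⁻¹)) := sq_iv (by
    rw [← mem_cent1_iff_conj.1 (mem_cent1_comm.1 h2)]; group)
  set u := w⁻¹ * (x * w * x⁻¹) with hud
  have h3 : u ∈ 𝐂[x] := by
    by_cases hz : u ∈ ZZ G
    · exact ZZ_le_cent1 x hz
    · exact (h.mem_of hi.rl hz (le_cent1_iff.2 hu.2) (mem_cent1_self u) (cent_le_norm _ hu.2)
        (two_of_mem hW hu.1)).2
  have h4 : ∀ k : ℕ, x ^ k * w * (x ^ k)⁻¹ = w * u ^ k := fun k => by
    induction k with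
    | zero => simp
    | succ k ih =>
      have h5 : x * u ^ k * x⁻¹ = u ^ k := mem_cent1_iff_conj.1 (mem_cent1_comm.1 (pow_mem h3 k))
      calc x ^ (k + 1) * w * (x ^ (k + 1))⁻¹ = x * (x ^ k * w * (x ^ k)⁻¹) * x⁻¹ := by group
        _ = w * (w⁻¹ * (x * w * x⁻¹)) * (x * u ^ k * x⁻¹) := by rw [ih]; group
        _ = _ := by rw [h5, ← hud, pow_succ', mul_assoc]
  have h5 := h4 (orderOf x)
  rw [pow_orderOf_eq_one, one_mul, inv_one, mul_one, left_eq_mul] at h5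
  have h6 : u = 1 := (two_of_mem hW hu.1).eq_one (h.odd.of_dvd_nat (orderOf_dvd_of_pow_eq_one h5))
  rw [hud, inv_mul_eq_one] at h6
  exact h1 (mem_cent1_comm.1 (mem_cent1_iff_conj.2 h6.symm))

theorem ll : LL.{u} := by
  intro G _ _ x e t T h he hi hne ht hnt
  have h1 : Iv e (e⁻¹ * (t * e * t⁻¹)) := sq_iv (hne.conj_sq t).symm
  have h2 : Iv t⁻¹ ((e⁻¹ * t⁻¹ * e⁻¹⁻¹)⁻¹ * t⁻¹) := sq_iv' (hnt.inv.conj_sq e⁻¹)
  have h3 : (e⁻¹ * t⁻¹ * e⁻¹⁻¹)⁻¹ * t⁻¹ = e⁻¹ * (t * e * t⁻¹) := by group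
  rw [h3] at h2
  have h4 : e⁻¹ * (t * e * t⁻¹) ∈ T ⊓ 𝐂[x] := by
    rw [← h3]
    exact mul_mem (inv_mem (conj_mem_of_norm (h.norm0 (inv_mem he)) (inv_mem ht))) (inv_mem ht)
  have h5 := a1a G x _ e _ h.h h.odd h.ne (two_of_mem h.two0 h4) h4.2 hi h1
    (hi.mul_cent (inv_mem ht.2)) (h1.mul_mem h2)
  exact mem_CM1.1 (inv_mem_iff.1 (mem_CM1.2 (by
    rwa [show ⁅e⁻¹, t⁆ = e⁻¹ * (t * e * t⁻¹) by simp only [commutatorElement_def]; group])))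

theorem m2 : M2.{u} := by
  intro G _ _ x y g k T h hT hr hz hg hk hg' hk'
  obtain ⟨P, hP⟩ := exists_syl 2 𝐂[y]
  obtain ⟨R, hR, hPR⟩ := exists_syl_ge (hP.le.trans (cent_le_CM {y})) hP.isPGroup
  have h1 : R ⊓ 𝐂[y] = P := (hP.eq_of_le (le_inf hPR hP.le) inf_le_right (hR.isPGroup.to_le inf_le_left))
  have h2 : ♯R ≤ 2 * ♯P := by
    rw [h.card_syl hr hz hP, ← h.card]
    exact Nat.le_of_dvd (card_pos' T) (hT.card_dvd le_top hR.isPGroup)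
  have h3 : ∀ a : G, ⁅a, y⁆ ∈ ZZ G → ∃ r ∈ R, ⁅r, y⁆ = ⁅a, y⁆ := fun a ha => by
    have h4 := constt_mem {2} (mem_CM1.2 ha)
    have h5 := constt_mem ({2} : Set ℕ)ᶜ (mem_CM1.2 ha)
    have h6 : constt ({2} : Set ℕ)ᶜ a ∈ 𝐂[y] := odd_CM (Nat.not_even_iff_odd.1 fun h7 =>
      (isPiNum_compl_singleton Nat.prime_two).1 (piElt_constt _ a) h7.two_dvd) h5
    obtain ⟨m, hm, h7⟩ := hR.exists_conj_le (zpowers_le_of_mem h4)
      (isPGroup_zpowers_iff.2 (piElt_constt _ a))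
    refine ⟨_, h7 (conj_mem_conj (mem_zpowers _)), ?_⟩
    rw [comm_mul_of_ZZ (mem_CM1.1 (inv_mem hm)), comm_mul_of_ZZ (mem_CM1.1 h4),
      ZZ_comm (mem_CM1.1 h4), mul_assoc, ← comm_mul_of_ZZ (mem_CM1.1 (inv_mem hm)), mul_inv_cancel,
      commutatorElement_one_left, mul_one]
    conv_rhs => rw [← constt_mul_constt_compl {2} a, comm_mul_of_ZZ (mem_CM1.1 h5),
      commutatorElement_eq_one_iff_mul_comm.2 (mem_cent1.1 h6), mul_one]
  obtain ⟨r, hr1, e1⟩ := h3 g hg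
  obtain ⟨s, hs1, e2⟩ := h3 k hk
  have h4 : ∀ {a b : G}, ⁅a, y⁆ = ⁅b, y⁆ → b ∉ 𝐂[y] → a ∉ 𝐂[y] := fun e hb ha => hb (by
    rw [mem_cent1, ← commutatorElement_eq_one_iff_mul_comm] at ha ⊢
    rw [← e, ha])
  have h5 := mul_mem_of_card (h1 ▸ h2) hr1 hs1 (h4 e1 hg') (h4 e2 hk')
  rw [mem_cent1, ← commutatorElement_eq_one_iff_mul_comm, comm_mul_of_ZZ (e2 ▸ hk), e1, e2] at h5
  rw [eq_inv_of_mul_eq_one_left h5, ZZ_inv hk]

end Cfsg.Agent.RC
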