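import Cfsg.Agent.Lib.RC.Basic

/-!
# Package P0b of plan RC
-/

set_option autoImplicit false

namespace Cfsg.Agent.RC

open Subgroup Cfsg.Agent.OO Cfsg.Agent.Coprime GW GW2
open scoped commutatorElement Pointwise

universe u

namespace P0b

variable {G : Type u} [Group G] [Finite G] {D : Subgroup G} {a b x : G}

theorem odd_constt (x : G) : Odd (orderOf (constt {2}ᶜ x)) := Nat.not_even_iff_odd.1 fun e =>
  (isPiNum_compl_singleton Nat.prime_two).1 (piElt_constt _ x) e.two_dvd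

theorem eq_of_sq (ho : Odd ♯D) (ha : a ∈ D) (hb : b ∈ D) (e : a * a = b * b) : a = b := by
  have h1 := sq_iv e
  exact inv_mul_eq_one.1 (odd_sq_eq_one (odd_of_mem ho (mul_mem (inv_mem ha) hb))
    (h1.sq_eq_one (mem_of_sq_mem (odd_of_mem ho ha) (h1.mul_mem h1))))

omit [Finite G] in
theorem exists_sqrt (ho : Odd (orderOf x)) : ∃ n : ℕ, x ^ n * x ^ n = x := by
  obtain ⟨k, hk⟩ := ho
  exact ⟨k + 1, by
    rw [← pow_add, show k + 1 + (k + 1) = orderOf x + 1 by omega, pow_succ, pow_orderOf_eq_one, one_mul]⟩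

end P0b

open P0b

theorem bs : BS.{u} := fun G _ _ M f hf hn h => by
  have := Fact.mk Nat.prime_two
  refine ⟨⟨f, hf⟩, Core.mem_pCore_iff_forall_closure.2 fun g => ?_, rfl⟩
  have h1 : Iv f (f⁻¹ * (g * f * (g : G)⁻¹)) := sq_iv (hn.conj_sq g).symm
  have h2 : f⁻¹ * (g * f * (g : G)⁻¹) ∈ M := mul_mem (inv_mem hf) (mul_mem (mul_mem g.2 hf) (inv_mem g.2))
  have h3 := h _ (constt_mem {2}ᶜ h2) (odd_constt _) (h1.of_mem_zpowers (constt_mem_zpowers _ _))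
  rw [constt_eq_one_iff, compl_compl, ← isPGroup_zpowers_iff] at h3
  refine (isPGroup_subgroupOf (h3.to_sup_of_normal_left' hn.two.pgroup (zpowers_le.2
    (conj_eq_self_iff.1 (by rw [conj_zpowers, h1, zpowers_inv])))) M).to_le ((closure_le _).2 ?_)
  rintro _ (rfl | rfl)
  · exact mem_sup_right (S := zpowers _) (mem_zpowers f)
  · exact (mul_mem_cancel_left (inv_mem (mem_sup_right (mem_zpowers f)))).1
      (mem_sup_left (mem_zpowers _))

theorem nr : NR.{u} := fun G _ _ M h => by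
  have := Fact.mk Nat.prime_two
  have hQ := Op_normal 2 M
  refine ⟨hQ.le, Op_isPGroup 2 M, fun e => ?_⟩
  rw [← card_quo hQ.norm] at e
  obtain ⟨t, ht, t1, t2⟩ := R1.exists_invol_mem e
  refine t1 (mem_bot.1 ((Op_quo_Op 2 M).le (bs _ _ t ht (by rw [Nice, t2]; exact one_mem _)
    fun z hz ho hi => ?_)))
  obtain ⟨x, hx, x1, x2, rfl⟩ := exists_piElt_coset_eq hz
    ((isPiNum_compl_singleton Nat.prime_two).2 ho.not_two_dvd_nat)
  have h1 := (quo_inf_norm_of_coprime hQ.le (zpowers_le.2 x1)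
    ((piGrp_singleton (Op_isPGroup 2 M)).coprime (piGrp_zpowers.2 x2))
    (.inl (sol_of_isPGroup (Op_isPGroup 2 M)))).ge ⟨ht, by
      rw [quo_zpowers x1]
      exact conj_eq_self_iff.1 (by rw [conj_zpowers, hi, zpowers_inv])⟩
  obtain ⟨e, he, e1, rfl⟩ := mem_quo.1 h1
  have h2 := mul_mem (conj_mem_of_norm he.2 (mem_zpowers x)) (mem_zpowers x)
  have h3 : e * x * e⁻¹ * x ∈ Op 2 M := (coset_eq_one_iff (zpowers_le.2 x1 h2)).1 (by
    rw [coset_mul (mul_mem (mul_mem e1 x1) (inv_mem e1)) x1, coset_conj e1 x1, hi, inv_mul_cancel])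
  rw [h x hx e he.1 (Nat.not_even_iff_odd.1 fun e =>
    (isPiNum_compl_singleton Nat.prime_two).1 x2 e.two_dvd) (eq_inv_of_mul_eq_one_left
    (((Op_piGrp 2 M).piElt h3).eq_one ((piGrp_zpowers.2 x2).piElt h2))), coset_one]

theorem fs : FS.{u} := fun G _ _ M x e hx ho x1 hi h1 h2 => by
  by_contra! hc
  have h3 : x ∈ 𝐂(O M) := mem_of_sq_mem ho (by
    have h4 := mul_mem (inv_mem (conj_mem_of_norm (norm_le_norm_cent _ (O_norm M hx)) h2)) h2
    have h5 : e⁻¹ * x * e = x⁻¹ := by simpa [Iv] using hi.inv_left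
    rwa [show (x * e * x⁻¹)⁻¹ * e = x * (e⁻¹ * x * e)⁻¹ by group, h5, inv_inv] at h4)
  have h4 := Wal.mem_Fit hx (le_cent_symm (Fit_le_of_forall fun p hp => le_cent_symm (zpowers_le.2 (by
    by_cases e : p = 2
    · exact e ▸ h1
    · exact cent_anti (le_Opi (Op_normal p M) (odd_iff.1 (odd_of_isPGroup e (Op_isPGroup p M)))) h3)))
    (mem_zpowers x)) fun K hK => (hc K hK.le hK.2).elim
  have h5 := le_Opi_of_nil (Fit_nil M) (zpowers_le.2 h4) (odd_iff.1 (by rwa [Nat.card_zpowers]))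
  exact x1 (odd_sq_eq_one ho (hi.sq_eq_one (cent_le_cent1
    (le_Opi ((Fit_normal M).Opi _) (Opi_piGrp _ _) (h5 (mem_zpowers x))) h2)))

theorem g4 : G4.{u} := fun G _ _ D e f ho he hf e2 f2 ef hn => by
  obtain ⟨d, hd, h1⟩ : ∃ d ∈ D, e * d * e⁻¹ ≠ d := by
    by_contra! hc
    exact hn (mem_cent_iff_conj.2 hc)
  have ee : ∀ d ∈ D, e * (e * d * e⁻¹) * e⁻¹ = d := fun d hd => by
    rw [← mem_cent_iff_conj.1 e2 d hd]; nth_rw 1 [mem_cent_iff_conj.1 e2 d hd]; group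
  have ff : ∀ d ∈ D, f * (f * d * f⁻¹) * f⁻¹ = d := fun d hd => by
    rw [← mem_cent_iff_conj.1 f2 d hd]; nth_rw 1 [mem_cent_iff_conj.1 f2 d hd]; group
  have fe : ∀ d ∈ D, e * (f * d * f⁻¹) * e⁻¹ = f * (e * d * e⁻¹) * f⁻¹ := fun d hd => by
    rw [← mem_cent_iff_conj.1 ef _ (conj_mem_of_norm hf (conj_mem_of_norm he hd)),
      commutatorElement_def]
    group
  have hy := mul_mem (inv_mem hd) (conj_mem_of_norm he hd)
  have y1 : d⁻¹ * (e * d * e⁻¹) ≠ 1 := fun e => h1 (inv_mul_eq_one.1 e).symm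
  have y2 : Iv e (d⁻¹ * (e * d * e⁻¹)) := by
    rw [Iv, ← conj_mul, ee d hd]; group
  generalize d⁻¹ * (e * d * e⁻¹) = y at hy y1 y2
  have hz := conj_mem_of_norm hf hy
  have z2 : e * (f * y * f⁻¹) * e⁻¹ = (f * y * f⁻¹)⁻¹ := by rw [fe y hy, y2]; group
  have z3 := ff y hy
  obtain ⟨n, hs⟩ := exists_sqrt (odd_of_mem ho (mul_mem hz (inv_mem hy)))
  have hm := mul_mem (pow_mem (mul_mem hz (inv_mem hy)) n) hy
  have uq : ∀ m ∈ D, m * y⁻¹ * m = f * y * f⁻¹ → m = (f * y * f⁻¹ * y⁻¹) ^ n * y := fun m hm e =>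
    mul_inv_eq_iff_eq_mul.1 (eq_of_sq ho (mul_mem hm (inv_mem hy)) (pow_mem (mul_mem hz (inv_mem hy)) n)
      (by rw [hs, ← e]; group))
  have m1 : (f * y * f⁻¹ * y⁻¹) ^ n * y * y⁻¹ * ((f * y * f⁻¹ * y⁻¹) ^ n * y) = f * y * f⁻¹ := by
    rw [mul_inv_cancel_right, ← mul_assoc, hs, inv_mul_cancel_right]
  generalize (f * y * f⁻¹ * y⁻¹) ^ n * y = m at hm uq m1
  by_cases m0 : m = 1
  · refine ⟨y, hy, y1, y2, .inr (mem_cent1_comm.1 (Iv.mul_mem y2 ?_))⟩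
    simpa [m0, Iv] using m1.symm
  refine ⟨m, hm, m0, inv_eq_iff_eq_inv.1 (uq _ (inv_mem (conj_mem_of_norm he hm)) ?_), .inl
    (mem_cent1_comm.1 (mem_cent1_iff_conj.2 (uq _ (conj_mem_of_norm hf hm) ?_)))⟩
  · calc _ = (e * m * e⁻¹ * y⁻¹⁻¹ * (e * m * e⁻¹))⁻¹ := by group
      _ = (e * (m * y⁻¹ * m) * e⁻¹)⁻¹ := by nth_rw 1 [← y2]; group
      _ = _ := by rw [m1, z2, inv_inv]
  · nth_rw 1 [← z3, ← m1]
    group

end Cfsg.Agent.RC
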