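import Cfsg.Agent.Lib.RC.P0a

/-!
# Plan RC, package P1
-/

set_option autoImplicit false
set_option linter.unusedSectionVars false

namespace Cfsg.Agent.RC

open Subgroup Cfsg.Agent.OO Cfsg.Agent.Coprime GW GW2
open scoped commutatorElement Pointwise

universe u

namespace Pb

variable {G X : Type u} [Group G] [Finite G] [Group X] [Finite X] {φ : G →* X}

/-- real elements lift with the same 2-part of the centralizer -/
theorem lift (hφ : Function.Surjective φ) (ho : Odd ♯φ.ker) {y : X} (hr : Rl y) (hz : y ∉ ZZ X) :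
    ∃ g : G, Rl g ∧ g ∉ ZZ G ∧ ∃ P, Syl 2 P 𝐂[g] ∧ ∀ Q, Syl 2 Q 𝐂[y] → ♯Q = ♯P := by
  have := Fact.mk Nat.prime_two
  obtain ⟨T, hT⟩ := exists_syl 2 ((CS y).comap φ)
  have h1 := hT.map φ
  rw [map_comap_eq_self_of_surjective hφ] at h1
  obtain ⟨_, ⟨e, he, rfl⟩, hi⟩ := syl_exists_iv h1 hr
  have h2 : T ≤ 𝐍(𝐂[y].comap φ) := fun t ht => mem_norm_of_conj_mem fun a ha => by
    simpa using conj_mem_of_norm (CS_le_norm y (hT.le ht)) ha
  have h3 := hT.inf_of_norm (comap_mono (cent_le_CS y)) h2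
  have h4 : e ∈ 𝐍(T ⊓ 𝐂[y].comap φ) := mem_norm_inf (le_norm_self T he) (h2 he)
  have h5 : e * e ∈ T ⊓ 𝐂[y].comap φ := ⟨T.mul_mem he he, by simpa using hi.mul_mem hi⟩
  set P := T ⊓ 𝐂[y].comap φ
  have hc := (coprime_of_isPGroup h3.isPGroup (odd_iff.1 ho)).symm
  obtain ⟨g0, rfl⟩ := hφ y
  obtain ⟨n, hn, h6⟩ := coprime_cent_lift (A := P) (N := φ.ker) (by simp [normalizer_eq_top]) hc
    (.inr h3.sol) (x := g0) (by simp [normalizer_eq_top]) fun a ha => by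
      rw [MonoidHom.mem_ker, map_commutatorElement, commutatorElement_eq_one_iff_mul_comm]
      exact (mem_cent1.1 ha.2).symm
  have h7 : φ (n * g0) = φ g0 := by rw [map_mul, hn, one_mul]
  generalize n * g0 = g at h6 h7
  have h8 : g * (e * g * e⁻¹) ∈ φ.ker := by
    have : φ e * φ g0 * (φ e)⁻¹ = (φ g0)⁻¹ := hi
    simp [h7, this]
  have h9 : g * (e * g * e⁻¹) ∈ 𝐂(P) := mul_mem h6 (conj_mem_of_norm (norm_le_norm_cent P h4) h6)
  have h10 : e * e * (g * (e * g * e⁻¹)) = g * e * (g * e) := by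
    rw [mem_cent_iff.1 h9 _ h5]; group
  have h11 := odd_of_mem ho h8
  have h12 := Pa.mem_left h11 (two_of_mem h3.isPGroup h5) (le_cent1_iff.2 h9 h5)
  rw [h10] at h12
  have h13 : g * e ∈ 𝐂[g * (e * g * e⁻¹)] := cent1_le_of_mem_zpowers h12 (mem_cent1.2 (by group))
  have h14 : g * e * (g * e) = g * (e * g * e⁻¹) * (e * e) := by group
  generalize g * (e * g * e⁻¹) = d at h8 h9 h11 h13 h14
  obtain ⟨m, hm⟩ := h11
  have h15 : d ^ m * d ^ m * d = 1 := by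
    rw [← pow_add, ← pow_succ, ← two_mul, ← hm, pow_orderOf_eq_one]
  have h16 : φ (d ^ m * g) = φ g0 := by rw [map_mul, pow_mem h8 m, one_mul, h7]
  have h17 : P ≤ 𝐂[d ^ m * g] := le_cent1_iff.2 (mul_mem (pow_mem h9 m) h6)
  refine ⟨d ^ m * g, ⟨e, eq_inv_of_mul_eq_one_right ?_⟩, fun e1 => hz (h16 ▸ ⟨mem_center_iff.2 fun b => ?_,
    by rw [← map_mul, e1.2, map_one]⟩), P, h3.mono h17 fun a ha => ?_, fun Q hQ => ?_⟩
  · calc _ = d ^ m * (g * e * d ^ m * (g * e)⁻¹) * (g * e * (g * e)) * (e * e)⁻¹ := by group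
      _ = d ^ m * d ^ m * d := by
        rw [← conj_pow, mem_cent1_iff_conj.1 h13, h14, mul_assoc, mul_inv_cancel_right]
      _ = 1 := h15
  · obtain ⟨b, rfl⟩ := hφ b
    rw [← map_mul, ZZ_comm e1, map_mul]
  · rw [mem_comap, ← h16, mem_cent1, ← map_mul, mem_cent1.1 ha, map_mul]
  · have k1 := h3.map φ
    rw [map_comap_eq_self_of_surjective hφ] at k1
    rw [hQ.card_eq_card k1, ← Core.card_inf_ker_mul_card_map φ P, inf_eq_bot_of_coprime_card hc,
      card_bot, one_mul]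

theorem red (hφ : Function.Surjective φ) (ho : Odd ♯φ.ker) (h : H G) : H X := by
  intro a b ha a1 hb b1 P Q hP hQ hle
  have := Fact.mk Nat.prime_two
  obtain ⟨g, g1, g2, R, g3, g4⟩ := lift hφ ho ha a1
  obtain ⟨k, k1, k2, S, k3, k4⟩ := lift hφ ho hb b1
  obtain ⟨Q', hQ', e⟩ := exists_syl_ge hle hQ
  exact (card_le e).trans ((k4 _ hQ').trans_le ((h g k g1 g2 k1 k2 R S g3 k3.isPGroup k3.le).trans
    (g4 P hP).ge))

theorem syl_top (nr : NR.{u}) (main2 : MAIN2.{u}) (tri : TRI.{u}) (kd : KD.{u}) (en : EN.{u})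
    (h : H G) (hO : O (⊤ : Subgroup G) = ⊥) : Syl 2 (Op 2 ⊤) (⊤ : Subgroup G) := by
  have := Fact.mk Nat.prime_two
  refine nr G ⊤ fun x _ e _ ho hi => by_contra fun h1 => ?_
  obtain ⟨T, hT, -⟩ := h.cfg ho h1 hi.rl bot_le IsPGroup.of_bot
  have h2 : fittingSubgroup G = Op 2 ⊤ := Fit_top.symm.trans (Fit_eq_Op hO)
  have h3 := bb G x T _ hT (Op_isPGroup 2 ⊤) ((Op_normal 2 ⊤).norm (mem_top x))
    (le_top.trans (Op_normal 2 ⊤).norm)
  obtain ⟨L, hL, -⟩ := Core.exists_component_le_of_not_le_fitting (N := 𝐂(fittingSubgroup G))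
    (Subgroup.Normal.isSubnormal inferInstance) le_rfl fun e1 =>
      h1 ((two_of_mem (Op_isPGroup 2 ⊤) (h2 ▸ e1 (h2 ▸ h3))).eq_one ho)
  by_cases hB : Big G
  · exact main2 G L h hB hL.2
  simp only [Big, not_forall, not_not] at hB
  obtain ⟨y, R, hR, k1⟩ := hB
  have k2 : Sm L := ⟨h, fun _ _ e1 => k1.of_card_eq le_top (hR.card_eq e1), hL,
    (Op_isPGroup 2 ⊤).to_le (h2 ▸ Core.component_inf_centralizer_le_fitting hL)⟩
  obtain ⟨z, w, U, k3⟩ := tri G L k2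
  exact en G L k2 (kd G L U z w k3)

end Pb

theorem red : RED.{u} := fun _ _ _ N _ ho h =>
  Pb.red (QuotientGroup.mk'_surjective N) (by rwa [QuotientGroup.ker_mk']) h

/-- the final assembly -/
theorem fin (nr : NR.{u}) (main2 : MAIN2.{u}) (tri : TRI.{u}) (kd : KD.{u}) (en : EN.{u})
    {G : Type u} [Group G] [Finite G] (a : ℕ)
    (h : ∀ x : G, IsConj x x⁻¹ → x ∉ center G → (𝐂[x].index).factorization 2 = a) :
    ∃ N K : Subgroup G, N.Normal ∧ K.Normal ∧ N ≤ K ∧ Odd (Nat.card N) ∧ Odd K.index ∧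
      ∃ j : ℕ, N.relIndex K = 2 ^ j := by
  have := Fact.mk Nat.prime_two
  have h1 : ∀ x : G, Rl x → x ∉ ZZ G →
      (♯𝐂[x]).factorization 2 + a = (Nat.card G).factorization 2 := fun x ⟨e, he⟩ hz => by
    rw [← h x (isConj_iff.2 ⟨e, he⟩) fun e1 => hz ⟨e1, he.sq_eq_one (mem_cent1.2
      (mem_center_iff.1 e1 e))⟩, ← card_mul_index 𝐂[x],
      Nat.factorization_mul (card_pos' _).ne' index_ne_zero_of_finite, Finsupp.add_apply]
  have h2 : H G := fun g k g1 g2 k1 k2 P Q hP hQ hle => by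
    obtain ⟨R, hR, e⟩ := exists_syl_ge hle hQ
    refine (card_le e).trans (le_of_eq ?_)
    rw [hR.card_eq, hP.card_eq, Nat.add_right_cancel ((h1 k k1 k2).trans (h1 g g1 g2).symm)]
  have h3 : Odd ♯(pPrimeCore 2 G) := Op'_top (p := 2) (G := G) ▸ odd_O ⊤
  have h4 := Pb.syl_top nr main2 tri kd en (red G _ h3 h2)
    (Op'_top.trans Core.pPrimeCore_quotient_pPrimeCore)
  have h5 := normalIn_top.1 (Op_normal 2 (⊤ : Subgroup (G ⧸ pPrimeCore 2 G)))
  obtain ⟨j, hj⟩ := IsPGroup.iff_card.1 h4.isPGroup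
  refine ⟨_, (Op 2 ⊤).comap (QuotientGroup.mk' (pPrimeCore 2 G)), inferInstance, inferInstance,
    (QuotientGroup.ker_mk' _).ge.trans (ker_le_comap _ _), h3, ?_, j, ?_⟩
  · rw [index_comap_of_surjective _ (QuotientGroup.mk'_surjective _), ← relIndex_top_right]
    exact Nat.not_even_iff_odd.1 fun e => h4.not_dvd e.two_dvd
  · rw [← Core.card_map_mk_eq_relIndex, map_comap_eq_self_of_surjective (QuotientGroup.mk'_surjective _), hj]

end Cfsg.Agent.RC
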